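import Cfsg.Agent.ODD.Defs
import Cfsg.Agent.Characters.Core
import Cfsg.Agent.H95.StemCover

/-!
# ODD, covers: transport and the general tools (helper4)

* `oddRat_of_surj`, `qa_of_surj` (to quotients), `oddRat_congr`, `qa_congr`, `qb_congr`;
  `qb_of_cover` (to a central quotient, if the automorphisms lift);
* `MB S n`: the kernel of every perfect central extension of `S` has order dividing `n`;
* `Plain K`: the odd covers of the family `K` are simple and in `K`; `Plain.rowO`, `Plain.rowA`, `Plain.rowB`;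
* `exists_cover_odd`: a perfect central extension which has the full odd part of the multiplier maps onto all odd covers;
* `Full σ`, `lift_aut`: automorphisms lift.
-/

set_option autoImplicit false
set_option maxHeartbeats 400000

namespace Cfsg.Agent.ODD.Cv

open Cfsg Cfsg.Agent.ODD Cfsg.Agent.ODD.Red Subgroup

universe u v

section transport

variable {G : Type u} {X : Type v} [Group G] [Group X]

theorem charDegree_comp (φ : G →* X) (θ : X → ℂ) : charDegree (θ ∘ φ) = charDegree θ := by
  simp [charDegree]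

theorem rat2_comp_iff (φ : G →* X) (hφ : Function.Surjective φ) (θ : X → ℂ) : Rat2 (θ ∘ φ) ↔ Rat2 θ := by
  constructor
  · intro h τ hτ x
    obtain ⟨g, rfl⟩ := hφ x
    exact h τ hτ g
  · intro h τ hτ g
    exact h τ hτ (φ g)

/-- `OddRat` passes to quotients. -/
theorem oddRat_of_surj (φ : G →* X) (hφ : Function.Surjective φ) (h : OddRat G) : OddRat X := by
  intro θ h1 h2
  exact (rat2_comp_iff φ hφ θ).1
    (h _ (Characters.Core.isIrr_comp φ hφ h1) (by rwa [charDegree_comp]))

/-- `QA` passes to quotients. -/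
theorem qa_of_surj (φ : G →* X) (hφ : Function.Surjective φ) (h : QA G) : QA X := by
  intro θ h1 h2 h3
  obtain ⟨g, k, hk, hg⟩ := h _ (Characters.Core.isIrr_comp φ hφ h1) (by rwa [charDegree_comp])
    (fun h4 => h3 ((rat2_comp_iff φ hφ θ).1 h4))
  have h5 : orderOf (φ g) ∣ 2 ^ k := hk ▸ orderOf_map_dvd φ g
  obtain ⟨j, -, hj⟩ := (Nat.dvd_prime_pow Nat.prime_two).1 h5
  exact ⟨φ g, j, hj, hg⟩

theorem oddRat_congr (e : X ≃* G) (h : OddRat G) : OddRat X :=
  oddRat_of_surj e.symm.toMonoidHom e.symm.surjective h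

theorem qa_congr (e : X ≃* G) (h : QA G) : QA X :=
  qa_of_surj e.symm.toMonoidHom e.symm.surjective h

/-- Two endomorphisms of a perfect group which agree modulo a central subgroup are equal. -/
theorem eq_of_central {H : Type*} [Group H] (hG : commutator G = ⊤) {a b : G →* H}
    (h : ∀ g, a g * (b g)⁻¹ ∈ center H) : a = b := by
  let f : G →* center H :=
    { toFun := fun g => ⟨a g * (b g)⁻¹, h g⟩
      map_one' := Subtype.ext (by simp)
      map_mul' := by
        intro x y
        apply Subtype.ext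
        have h1 := mem_center_iff.1 (h y) (b x)⁻¹
        show a (x * y) * (b (x * y))⁻¹ = a x * (b x)⁻¹ * (a y * (b y)⁻¹)
        rw [map_mul, map_mul, mul_inv_rev, mul_assoc (a x) (b x)⁻¹, h1]
        group }
  have h2 : commutator G ≤ f.ker := by
    rw [commutator_def, commutator_le]
    intro x _ y _
    rw [MonoidHom.mem_ker, map_commutatorElement, commutatorElement_eq_one_iff_mul_comm]
    exact Subtype.ext (mem_center_iff.1 (f y).2 (f x))
  ext g
  have h3 : f g = 1 := h2 (by rw [hG]; exact mem_top g)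
  exact mul_inv_eq_one.1 (congrArg Subtype.val h3)

/-- `QB` passes to a central quotient of a perfect group if the automorphisms lift. -/
theorem qb_of_cover [Finite G] [Finite X] (φ : G →* X) (hφ : Function.Surjective φ) (hc : φ.ker ≤ center G)
    (hG : commutator G = ⊤) (hl : ∀ a : MulAut X, ∃ b : MulAut G, ∀ g, φ (b g) = a (φ g)) (h : QB G) : QB X := by
  intro Q A c θ h1 h2 h3 h4
  have : Fact (Nat.Prime 2) := ⟨Nat.prime_two⟩
  choose l hl using hl
  have uniq : ∀ b b' : MulAut G, (∀ g, φ (b g) = φ (b' g)) → b = b' := by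
    intro b b' hb
    have h5 := eq_of_central hG (a := b.toMonoidHom) (b := b'.toMonoidHom) fun g => hc (by
      rw [MonoidHom.mem_ker, map_mul, map_inv]
      exact mul_inv_eq_one.2 (hb g))
    ext g
    exact DFunLike.congr_fun h5 g
  let L : MulAut X →* MulAut G :=
    { toFun := l
      map_one' := uniq _ _ fun g => by rw [hl]; rfl
      map_mul' := fun a b => uniq _ _ fun g => by
        rw [hl, MulAut.mul_apply, MulAut.mul_apply, hl, hl] }
  have hL : ∀ a g, φ (L a g) = a (φ g) := hl
  have hinj : Function.Injective L := by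
    intro a b hab
    ext x
    obtain ⟨g, rfl⟩ := hφ x
    rw [← hL, ← hL, hab]
  obtain ⟨P, hP⟩ := Sylow.mapSurjective_surjective hφ 2 Q
  have hPQ : (P : Subgroup G).map φ = (Q : Subgroup X) := by
    rw [← hP]; rfl
  have hconj : ∀ g : G, L (MulAut.conj (φ g)) = MulAut.conj g := fun g => uniq _ _ fun x => by
    rw [hL, MulAut.conj_apply, MulAut.conj_apply, map_mul, map_mul, map_inv]
  -- the `2`-elements over `Q` are in `P`
  have hmem : ∀ g : G, φ g ∈ (Q : Subgroup X) → (∃ k : ℕ, g ^ 2 ^ k = 1) → g ∈ (P : Subgroup G) := by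
    rintro g hg ⟨k, hk⟩
    rw [← hPQ] at hg
    obtain ⟨y, hy, hyg⟩ := hg
    have hz : y⁻¹ * g ∈ center G := hc (by rw [MonoidHom.mem_ker, map_mul, map_inv, hyg, inv_mul_cancel])
    obtain ⟨j, hj⟩ := P.isPGroup' ⟨y, hy⟩
    have hj' : y ^ 2 ^ j = 1 := congrArg Subtype.val hj
    have hcm : Commute y⁻¹ g := by
      have h6 := mem_center_iff.1 hz g
      have h7 : g * y⁻¹ * g = y⁻¹ * g * g := by rw [← h6, mul_assoc]
      exact (mul_right_cancel h7).symm
    have hz2 : (y⁻¹ * g) ^ 2 ^ (j + k) = 1 := by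
      rw [hcm.mul_pow, inv_pow, pow_add, pow_mul, hj', one_pow, inv_one, one_mul, mul_comm, pow_mul, hk, one_pow]
    have hzp : IsPGroup 2 (zpowers (y⁻¹ * g)) := by
      rintro ⟨x, m, rfl⟩
      refine ⟨j + k, Subtype.ext ?_⟩
      show ((y⁻¹ * g) ^ m) ^ 2 ^ (j + k) = 1
      rw [← zpow_natCast, ← zpow_mul, mul_comm, zpow_mul, zpow_natCast, hz2, one_zpow]
    have : (zpowers (y⁻¹ * g)).Normal := by
      refine ⟨fun x hx w => ?_⟩
      have h8 : x ∈ center G := (zpowers_le.2 hz) hx
      rw [mem_center_iff.1 h8 w, mul_assoc, mul_inv_cancel, mul_one]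
      exact hx
    have h9 : y⁻¹ * g ∈ (P : Subgroup G) := (hzp.le_sylow_of_normal P) (mem_zpowers _)
    have h10 := mul_mem hy h9
    rwa [mul_inv_cancel_left] at h10
  have c' : H643.Sd.Ctx P (A.map L) := by
    refine ⟨c.isP.map L, fun x hx => ?_, ?_⟩
    · exact ⟨_, c.inner (φ x) (hPQ ▸ mem_map_of_mem φ hx), hconj x⟩
    · rintro _ ⟨a, ha, rfl⟩ x hx
      refine hmem _ ?_ ?_
      · rw [hL]
        exact c.stab a ha _ (hPQ ▸ mem_map_of_mem φ hx)
      · obtain ⟨j, hj⟩ := P.isPGroup' ⟨x, hx⟩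
        have hj' : x ^ 2 ^ j = 1 := congrArg Subtype.val hj
        exact ⟨j, by rw [← map_pow, hj', map_one]⟩
  obtain ⟨f, x, hx, hf⟩ := h P (A.map L) c' (θ ∘ φ) (Characters.Core.isIrr_comp φ hφ h1)
    (by rwa [charDegree_comp])
    (by
      rintro _ ⟨a, ha, rfl⟩ g
      show θ (φ (L a g)) = θ (φ g)
      rw [hL, h3 a ha])
    (fun h5 => h4 ((rat2_comp_iff φ hφ θ).1 h5))
  refine ⟨f.comp (L.subgroupMap A), φ x, hPQ ▸ mem_map_of_mem φ hx, ?_⟩
  have h11 : L.subgroupMap A ⟨MulAut.conj (φ x), c.inner _ (hPQ ▸ mem_map_of_mem φ hx)⟩ =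
      ⟨MulAut.conj x, c'.inner x hx⟩ := Subtype.ext (hconj x)
  rw [MonoidHom.comp_apply, h11]
  exact hf

theorem qb_congr [Finite G] [Finite X] (hG : commutator G = ⊤) (e : X ≃* G) (h : QB G) : QB X :=
  qb_of_cover e.symm.toMonoidHom e.symm.surjective
    (by rw [(MonoidHom.ker_eq_bot_iff _).2 e.symm.injective]; exact bot_le) hG
    (fun a => ⟨(e.symm.trans a).trans e, fun g => by simp⟩) h

end transport

/-! ### bounds for the multiplier -/

/-- The kernel of every finite perfect central extension of `S` has order dividing `n`. -/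
def MB (S : Type u) [Group S] (n : ℕ) : Prop :=
  ∀ (P : Type) [Group P] [Finite P], commutator P = ⊤ → ∀ π : P →* S, Function.Surjective π →
    π.ker ≤ center P → Nat.card π.ker ∣ n

theorem MB.of_mult {S : Type u} [Group S] {A : Type v} [CommGroup A] (h : HasSchurMultiplier S A) :
    MB S (Nat.card A) :=
  fun _ _ _ hP π h1 h2 => H95.StemCover.card_ker_dvd h hP π h1 h2

theorem MB.of_cyc {S : Type u} [Group S] {n : ℕ} (h : HasCyclicSchurMultiplier S n) : MB S n :=
  fun _ _ _ hP π h1 h2 => H95.StemCover.card_ker_dvd_cyclic h hP π h1 h2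

theorem MB.mono {S : Type u} [Group S] {n m : ℕ} (h : MB S n) (hn : n ∣ m) : MB S m :=
  fun P _ _ hP π h1 h2 => (h P hP π h1 h2).trans hn

theorem MB.congr {S : Type u} {S' : Type v} [Group S] [Group S'] {n : ℕ} (h : MB S n) (e : S' ≃* S) : MB S' n := by
  intro P _ _ hP π h1 h2
  have h3 : (e.toMonoidHom.comp π).ker = π.ker := by
    ext x
    simp
  have h4 := h P hP (e.toMonoidHom.comp π) (e.surjective.comp h1) (h3 ▸ h2)
  rwa [h3] at h4

section cov

variable {K : Fam} {X : Type} [Group X] [Finite X]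

omit [Finite X] in
theorem perfect (c : Cov K X) : commutator X = ⊤ := c.qs.1.commutator_eq_top

omit [Finite X] in
theorem simple (c : Cov K X) : IsSimpleGroup (X ⧸ center X) := c.qs.2

omit [Finite X] in
/-- change of the family -/
theorem cov_of (c : Cov K X) {K' : Fam} (h : K' (X ⧸ center X)) : Cov K' X := ⟨c.qs, c.odd, h⟩

theorem card_center_dvd (c : Cov K X) {n : ℕ} (h : MB (X ⧸ center X) n) : Nat.card (center X) ∣ n := by
  have h1 := h X (perfect c) (QuotientGroup.mk' (center X)) (QuotientGroup.mk'_surjective _)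
    (by rw [QuotientGroup.ker_mk'])
  rwa [QuotientGroup.ker_mk'] at h1

theorem center_eq_bot (c : Cov K X) {k : ℕ} (h : MB (X ⧸ center X) (2 ^ k)) : center X = ⊥ := by
  have h1 := card_center_dvd c h
  have h2 : (Nat.card (center X)).Coprime (2 ^ k) := Nat.Coprime.pow_right k (Nat.coprime_two_right.2 c.odd)
  exact Subgroup.card_eq_one.1 (Nat.Coprime.eq_one_of_dvd h2 h1)

omit [Finite X] in
/-- the isomorphism with the central quotient -/
noncomputable def eqv (h : center X = ⊥) : X ≃* X ⧸ center X :=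
  ((QuotientGroup.quotientMulEquivOfEq h).trans QuotientGroup.quotientBot).symm

omit [Finite X] in
theorem simple_of (c : Cov K X) (h : center X = ⊥) : IsSimpleGroup X :=
  have := simple c
  (eqv h).isSimpleGroup

end cov

/-- The family is closed under isomorphisms. -/
def Iso (K : Fam) : Prop := ∀ (S S' : Type) [Group S] [Group S'], (S ≃* S') → K S' → K S

/-- The odd covers of the family are simple and belong to the family. -/
def Plain (K : Fam) : Prop := ∀ (X : Type) [Group X] [Finite X], Cov K X → IsSimpleGroup X ∧ K X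

theorem plain_of {K : Fam} (hI : Iso K) (h : ∀ (S : Type) [Group S], K S → ∃ k, MB S (2 ^ k)) : Plain K := by
  intro X _ _ c
  obtain ⟨k, hk⟩ := h _ c.fam
  have hZ := center_eq_bot c hk
  exact ⟨simple_of c hZ, hI _ _ (eqv hZ) c.fam⟩

theorem Plain.rowO {K : Fam} (h : Plain K) (hS : RowS K) : RowO K := by
  intro X _ _ c
  obtain ⟨h1, h2⟩ := h X c
  exact hS X h2

theorem Plain.rowA {K : Fam} (h : Plain K)
    (hS : ∀ (S : Type) [Group S] [Finite S] [IsSimpleGroup S], K S → QA S) : RowA K := by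
  intro X _ _ c
  obtain ⟨h1, h2⟩ := h X c
  exact hS X h2

theorem Plain.rowB {K : Fam} (h : Plain K)
    (hS : ∀ (S : Type) [Group S] [Finite S] [IsSimpleGroup S], K S → QB S) : RowB K := by
  intro X _ _ c
  obtain ⟨h1, h2⟩ := h X c
  exact hS X h2

/-! ### a cover with the full odd part of the multiplier -/

section full

open Cfsg.Agent.H95.StemCover

variable {Γ S X : Type} [Group Γ] [Finite Γ] [Group S] [Group X] [Finite X]

/-- `σ : Γ → S` is a perfect central extension which has the full odd part of the multiplier of `S`. -/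
structure Full (σ : Γ →* S) : Prop where
  perf : commutator Γ = ⊤
  surj : Function.Surjective σ
  cen : σ.ker ≤ center Γ
  mb : ∃ k, MB S (Nat.card σ.ker * 2 ^ k)

omit [Finite Γ] in
theorem Full.congr {σ : Γ →* S} (h : Full σ) {S' : Type} [Group S'] (e : S ≃* S') :
    Full (e.toMonoidHom.comp σ) := by
  have h3 : (e.toMonoidHom.comp σ).ker = σ.ker := by
    ext x
    simp
  obtain ⟨k, hk⟩ := h.mb
  exact ⟨h.perf, e.surjective.comp h.surj, h3 ▸ h.cen, k, h3 ▸ hk.congr e.symm⟩

/-- **A full cover maps onto every odd cover.** -/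
theorem exists_cover_odd {σ : Γ →* S} (h : Full σ) (hX : commutator X = ⊤) (π : X →* S)
    (hπ : Function.Surjective π) (hc : π.ker ≤ center X) (ho : Odd (Nat.card π.ker)) :
    ∃ φ : Γ →* X, Function.Surjective φ ∧ ∀ x, π (φ x) = σ x := by
  have hS : commutator S = ⊤ := by
    have h1 : (commutator X).map π = ⁅π.range, π.range⁆ := map_commutator_eq X π
    rw [hX, ← MonoidHom.range_eq_map, MonoidHom.range_eq_top.2 hπ] at h1
    rw [commutator_def]; exact h1.symm
  have hσ' := isStem h.perf h.surj h.cen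
  refine exists_of_injective hS hσ' (isStem hX hπ hc) ?_
  obtain ⟨k, hk⟩ := h.mb
  have hst := stem_EE hS h.surj hπ h.cen hc
  have h1 := hk (EE σ π) (commutator_EE hS h.surj hπ h.cen hc) _ hst.1 hst.2.1
  have hs := pΓ_surj (σ := σ) (π := π) hS hσ' hπ
  -- `|ker (σ ∘ p)| = |ker p| |ker σ|`
  have h2 : Nat.card (σ.comp (pΓ σ π)).ker = Nat.card (pΓ σ π).ker * Nat.card σ.ker := by
    have : Finite S := Finite.of_surjective σ h.surj
    have a1 : Nat.card (EE σ π) = Nat.card (σ.comp (pΓ σ π)).ker * Nat.card S := by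
      rw [← card_mul_index (σ.comp (pΓ σ π)).ker, index_ker, MonoidHom.range_eq_top.2 hst.1, card_top]
    have a2 : Nat.card Γ = Nat.card σ.ker * Nat.card S := by
      rw [← card_mul_index σ.ker, index_ker, MonoidHom.range_eq_top.2 h.surj, card_top]
    have a3 : Nat.card (EE σ π) = Nat.card (pΓ σ π).ker * Nat.card Γ := by
      rw [← card_mul_index (pΓ σ π).ker, index_ker, MonoidHom.range_eq_top.2 hs, card_top]
    rw [a3, a2, ← mul_assoc] at a1
    exact (Nat.eq_of_mul_eq_mul_right Nat.card_pos a1).symm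
  rw [h2, mul_comm] at h1
  have h3 : Nat.card (pΓ σ π).ker ∣ 2 ^ k := Nat.dvd_of_mul_dvd_mul_left Nat.card_pos h1
  -- the kernel of `p` embeds into the kernel of `π`
  let j : (pΓ σ π).ker →* π.ker :=
    ((pP σ π).comp (pΓ σ π).ker.subtype).codRestrict π.ker fun x => by
      have h4 : pΓ σ π x = 1 := x.2
      show π (pP σ π x) = 1
      rw [← comp_eq, h4, map_one]
  have hj : Function.Injective j := by
    rw [injective_iff_map_eq_one]
    intro x hx
    have h4 : pΓ σ π x = 1 := x.2
    have h5 : pP σ π x = 1 := congrArg Subtype.val hx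
    exact Subtype.ext (Subtype.ext (Prod.ext h4 h5))
  have h6 : Odd (Nat.card (pΓ σ π).ker) := ho.of_dvd_nat (card_dvd_of_injective j hj)
  have h7 : (Nat.card (pΓ σ π).ker).Coprime (2 ^ k) := Nat.Coprime.pow_right k (Nat.coprime_two_right.2 h6)
  rw [← MonoidHom.ker_eq_bot_iff]
  exact Subgroup.card_eq_one.1 (Nat.Coprime.eq_one_of_dvd h7 h3)

/-- The form for `Cov`. -/
theorem Full.cov {K : Fam} (c : Cov K X) {σ : Γ →* S} (h : Full σ) (e : X ⧸ center X ≃* S) :
    ∃ φ : Γ →* X, Function.Surjective φ ∧ φ.ker ≤ σ.ker ∧ ∀ x, e (QuotientGroup.mk (φ x)) = σ x := by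
  have h3 : (e.toMonoidHom.comp (QuotientGroup.mk' (center X))).ker = center X := by
    ext x
    simp
  obtain ⟨φ, h1, h2⟩ := exists_cover_odd h (perfect c) (e.toMonoidHom.comp (QuotientGroup.mk' (center X)))
    (e.surjective.comp (QuotientGroup.mk'_surjective _)) h3.le (by rw [h3]; exact c.odd)
  refine ⟨φ, h1, fun x hx => ?_, h2⟩
  rw [MonoidHom.mem_ker] at hx ⊢
  rw [← h2, hx, map_one]

omit [Finite X] in
/-- If the kernel of `σ` has the order of the whole multiplier, the automorphisms of the quotients of `Γ` between `Γ` and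
`S` lift to `Γ`. -/
theorem lift_aut {σ : Γ →* S} (hΓ : commutator Γ = ⊤) (hs : Function.Surjective σ) (hc : σ.ker ≤ center Γ)
    (hm : MB S (Nat.card σ.ker)) (φ : Γ →* X) (hφ : Function.Surjective φ) (hk : φ.ker ≤ center Γ) (a : MulAut X) :
    ∃ b : MulAut Γ, ∀ g, φ (b g) = a (φ g) := by
  have hX : commutator X = ⊤ := by
    have h1 : (commutator Γ).map φ = ⁅φ.range, φ.range⁆ := map_commutator_eq Γ φ
    rw [hΓ, ← MonoidHom.range_eq_map, MonoidHom.range_eq_top.2 hφ] at h1
    rw [commutator_def]; exact h1.symm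
  have h3 : (a.toMonoidHom.comp φ).ker = φ.ker := by
    ext x
    simp
  have hσ' := isStem hΓ (a.surjective.comp hφ : Function.Surjective (a.toMonoidHom.comp φ)) (h3 ▸ hk)
  have hπ' := isStem hΓ hφ hk
  have hE := commutator_EE (σ := a.toMonoidHom.comp φ) (π := φ) hX hσ'.1 hφ hσ'.2.1 hk
  have hp := pΓ_surj (σ := a.toMonoidHom.comp φ) (π := φ) hX hσ' hφ
  have hst := stem_EE (σ := a.toMonoidHom.comp φ) (π := φ) hX hσ'.1 hφ hσ'.2.1 hk
  set p := pΓ (a.toMonoidHom.comp φ) φ with hpdef
  -- the kernel of `σ ∘ p` is central: Grün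
  have hcen : (σ.comp p).ker ≤ center (EE (a.toMonoidHom.comp φ) φ) := by
    intro x hx
    have hx1 : p x ∈ center Γ := hc hx
    have h4 := eq_of_central hE (a := (MulAut.conj x).toMonoidHom) (b := MonoidHom.id _) fun g => hst.2.1 (by
      have h5 : p ((MulAut.conj x).toMonoidHom g * ((MonoidHom.id _) g)⁻¹) = 1 := by
        show p (x * g * x⁻¹ * g⁻¹) = 1
        rw [map_mul, map_mul, map_mul, map_inv, map_inv, ← mem_center_iff.1 hx1 (p g)]
        group
      rw [MonoidHom.mem_ker, MonoidHom.comp_apply, h5, map_one])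
    rw [mem_center_iff]
    intro g
    have h6 : x * g * x⁻¹ = g := DFunLike.congr_fun h4 g
    exact (mul_inv_eq_iff_eq_mul.1 h6).symm
  have hsp : Function.Surjective (σ.comp p) := hs.comp hp
  have h1 := hm _ hE (σ.comp p) hsp hcen
  have : Finite S := Finite.of_surjective σ hs
  have a1 : Nat.card (EE (a.toMonoidHom.comp φ) φ) = Nat.card (σ.comp p).ker * Nat.card S := by
    rw [← card_mul_index (σ.comp p).ker, index_ker, MonoidHom.range_eq_top.2 hsp, card_top]
  have a2 : Nat.card Γ = Nat.card σ.ker * Nat.card S := by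
    rw [← card_mul_index σ.ker, index_ker, MonoidHom.range_eq_top.2 hs, card_top]
  have h4 : Nat.card (EE (a.toMonoidHom.comp φ) φ) ≤ Nat.card Γ := by
    rw [a1, a2]
    exact Nat.mul_le_mul_right _ (Nat.le_of_dvd Nat.card_pos h1)
  have h5 : Nat.card Γ ≤ Nat.card (EE (a.toMonoidHom.comp φ) φ) := Nat.card_le_card_of_surjective _ hp
  have h6 : Function.Bijective p := (Nat.bijective_iff_surjective_and_card _).2 ⟨hp, le_antisymm h4 h5⟩
  obtain ⟨b, hb1, hb2⟩ := exists_of_injective hX hσ' hπ' h6.1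
  exact ⟨MulEquiv.ofBijective b ((Finite.surjective_iff_bijective).1 hb1), hb2⟩

end full

end Cfsg.Agent.ODD.Cv
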