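import Cfsg.Agent.ODD.Cov.Lin

/-!
# ODD, covers: characteristic two (helper4)

`rowO_two`: the row `BoxO.two` follows from the simple groups, the groups `SL_n(q)`, `SU_n(q)` and the triple covers of
`E₆(q)`, `²E₆(q)`.
-/

set_option autoImplicit false
set_option maxHeartbeats 400000

namespace Cfsg.Agent.ODD.Cv

open Cfsg Cfsg.Agent.ODD Subgroup Matrix

theorem iso_lie (p : ℕ) : Iso fun S _ => IsLieTypeChar p S := by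
  intro S S' _ _ e h
  rcases h with ⟨F, a, b, c, n, h1, h2, ⟨f⟩⟩ | ⟨F, a, b, c, n, h1, h2, ⟨f⟩⟩ | ⟨F, a, b, c, n, q, h1, h2, h3, ⟨f⟩⟩ |
    ⟨F, a, b, c, n, h1, h2, ⟨f⟩⟩ | ⟨F, a, b, c, n, h1, ⟨f⟩⟩ | ⟨F, a, b, c, n, x, y, h1, h2, ⟨f⟩⟩ |
    ⟨F, a, b, c, h⟩ | ⟨F, a, b, c, q, h0, h⟩ | ⟨h0, F, a, b, m, h1, h2, ⟨f⟩⟩ | ⟨h0, F, a, b, m, h1, h2, ⟨f⟩⟩ |
    ⟨h0, F, a, b, m, h1, h2, ⟨f⟩⟩
  · exact .inl ⟨F, a, b, c, n, h1, h2, ⟨e.trans f⟩⟩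
  · exact .inr (.inl ⟨F, a, b, c, n, h1, h2, ⟨e.trans f⟩⟩)
  · exact .inr (.inr (.inl ⟨F, a, b, c, n, q, h1, h2, h3, ⟨e.trans f⟩⟩))
  · exact .inr (.inr (.inr (.inl ⟨F, a, b, c, n, h1, h2, ⟨e.trans f⟩⟩)))
  · exact .inr (.inr (.inr (.inr (.inl ⟨F, a, b, c, n, h1, ⟨e.trans f⟩⟩))))
  · exact .inr (.inr (.inr (.inr (.inr (.inl ⟨F, a, b, c, n, x, y, h1, h2, ⟨e.trans f⟩⟩)))))
  · refine .inr (.inr (.inr (.inr (.inr (.inr (.inl ⟨F, a, b, c, ?_⟩))))))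
    rcases h with ⟨h, ⟨f⟩⟩ | ⟨⟨f⟩⟩ | ⟨⟨f⟩⟩ | ⟨⟨f⟩⟩ | ⟨⟨f⟩⟩
    · exact .inl ⟨h, ⟨e.trans f⟩⟩
    · exact .inr (.inl ⟨e.trans f⟩)
    · exact .inr (.inr (.inl ⟨e.trans f⟩))
    · exact .inr (.inr (.inr (.inl ⟨e.trans f⟩)))
    · exact .inr (.inr (.inr (.inr ⟨e.trans f⟩)))
  · refine .inr (.inr (.inr (.inr (.inr (.inr (.inr (.inl ⟨F, a, b, c, q, h0, ?_⟩)))))))
    rcases h with ⟨h, ⟨f⟩⟩ | ⟨h, ⟨f⟩⟩
    · exact .inl ⟨h, ⟨e.trans f⟩⟩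
    · exact .inr ⟨h, ⟨e.trans f⟩⟩
  · exact .inr (.inr (.inr (.inr (.inr (.inr (.inr (.inr (.inl ⟨h0, F, a, b, m, h1, h2, ⟨e.trans f⟩⟩))))))))
  · exact .inr (.inr (.inr (.inr (.inr (.inr (.inr (.inr (.inr (.inl
      ⟨h0, F, a, b, m, h1, h2, ⟨e.trans f⟩⟩)))))))))
  · exact .inr (.inr (.inr (.inr (.inr (.inr (.inr (.inr (.inr (.inr
      ⟨h0, F, a, b, m, h1, h2, ⟨e.trans f⟩⟩)))))))))

theorem even_card (F : Type) [Field F] [Fintype F] [CharP F 2] : Even (Fintype.card F) := by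
  have : Fact (Nat.Prime 2) := ⟨Nat.prime_two⟩
  obtain ⟨k, -, hk⟩ := FiniteField.card F 2
  rw [hk]
  exact (Nat.even_pow.2 ⟨even_two, k.pos.ne'⟩)

/-- The odd covers in characteristic two. -/
theorem two_cases {X : Type} [Group X] [Finite X] (c : Cov (fun S _ => IsLieTypeChar 2 S) X) :
    (IsSimpleGroup X ∧ IsLieTypeChar 2 X) ∨
    (∃ (F : Type) (_ : Field F) (_ : Fintype F) (_ : CharP F 2) (n : ℕ) (φ : SpecialLinearGroup (Fin n) F →* X),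
      2 ≤ n ∧ (n = 2 → 4 ≤ Fintype.card F) ∧ Function.Surjective φ ∧
        φ.ker ≤ center (SpecialLinearGroup (Fin n) F)) ∨
    (∃ (F : Type) (_ : Field F) (_ : Fintype F) (_ : CharP F 2) (n q : ℕ) (φ : SU n F q →* X),
      Fintype.card F = q ^ 2 ∧ 3 ≤ n ∧ ¬ (n = 3 ∧ q = 2) ∧ Function.Surjective φ ∧ φ.ker ≤ center (SU n F q)) ∨
    (∃ (F : Type) (_ : Field F) (_ : Fintype F) (_ : CharP F 2), 3 ∣ Fintype.card F - 1 ∧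
      Nat.card (center X) = 3 ∧ Nonempty (X ⧸ center X ≃* Lie.chevE6.group F)) ∨
    (∃ (F : Type) (_ : Field F) (_ : Fintype F) (_ : CharP F 2) (q : ℕ), IsPrimePow q ∧ Fintype.card F = q ^ 2 ∧
      3 ∣ q + 1 ∧ Nat.card (center X) = 3 ∧ Nonempty (X ⧸ center X ≃* Lie.twistedE6 F q)) := by
  have pl : center X = ⊥ → IsSimpleGroup X ∧ IsLieTypeChar 2 X :=
    fun hZ => ⟨simple_of c hZ, iso_lie 2 _ _ (eqv hZ) c.fam⟩
  have three : ∀ m : ℕ, Nat.card (center X) ∣ Nat.gcd 3 m → center X = ⊥ ∨ (3 ∣ m ∧ Nat.card (center X) = 3) := by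
    intro m hm
    rcases (Nat.dvd_prime Nat.prime_three).1 (hm.trans (Nat.gcd_dvd_left _ _)) with h | h
    · exact .inl (Subgroup.card_eq_one.1 h)
    · exact .inr ⟨h ▸ hm.trans (Nat.gcd_dvd_right _ _), h⟩
  rcases c.fam with ⟨F, _, _, _, n, h1, h2, ⟨f⟩⟩ | ⟨F, _, _, _, n, h1, h2, ⟨f⟩⟩ | ⟨F, _, _, _, n, q, h1, h2, h3, ⟨f⟩⟩ |
    ⟨F, _, _, _, n, h1, h2, ⟨f⟩⟩ | ⟨F, _, _, _, n, h1, ⟨f⟩⟩ | ⟨F, _, _, _, n, x, y, h1, h2, ⟨f⟩⟩ |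
    ⟨F, _, _, _, h⟩ | ⟨F, _, _, _, q, h0, h⟩ | ⟨-, F, _, _, m, h1, h2, ⟨f⟩⟩ | ⟨-, F, _, _, m, h1, h2, ⟨f⟩⟩ |
    ⟨h0, -⟩
  · obtain ⟨k, hk⟩ := even_card F
    obtain ⟨φ, h3, h4, -⟩ := sl_cover c h1 h2 (by omega) f
    exact .inr (.inl ⟨F, _, _, inferInstance, n, φ, h1, h2, h3, h4⟩)
  · exact .inl (pl (center_eq_bot c ((mb_psp h1 h2).congr f)))
  · obtain ⟨k, hk⟩ := even_card F
    obtain ⟨φ, h4, h5, -⟩ := su_cover c h1 h2 h3 (by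
      rintro ⟨-, rfl⟩
      omega) f
    exact .inr (.inr (.inl ⟨F, _, _, inferInstance, n, q, φ, h1, h2, h3, h4, h5⟩))
  · exact absurd (even_card F) (Nat.not_even_iff_odd.2 h2)
  · exact .inl (pl (center_eq_bot c ((mb_plus h1).congr f)))
  · exact .inl (pl (center_eq_bot c ((mb_minus h1 h2).congr f)))
  · rcases h with ⟨h, ⟨f⟩⟩ | ⟨⟨f⟩⟩ | ⟨⟨f⟩⟩ | ⟨⟨f⟩⟩ | ⟨⟨f⟩⟩
    · obtain ⟨k, hk⟩ := even_card F
      exact .inl (pl (center_eq_bot c ((mb_g2 (by omega)).congr f)))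
    · exact .inl (pl (center_eq_bot c (mb_f4.congr f)))
    · rcases three _ (e6_center c f) with h | h
      · exact .inl (pl h)
      · exact .inr (.inr (.inr (.inl ⟨F, _, _, inferInstance, h.1, h.2, ⟨f⟩⟩)))
    · exact .inl (pl (center_eq_bot c (mb_e7.congr f)))
    · exact .inl (pl (center_eq_bot c (mb_e8.congr f)))
  · rcases h with ⟨h, ⟨f⟩⟩ | ⟨h, ⟨f⟩⟩
    · rcases three _ (tw_center c h0 h f) with h1 | h1
      · exact .inl (pl h1)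
      · exact .inr (.inr (.inr (.inr ⟨F, _, _, inferInstance, q, h0, h, h1.1, h1.2, ⟨f⟩⟩)))
    · exact .inl (pl (center_eq_bot c ((mb_d4 h0 h).congr f)))
  · exact .inl (pl (center_eq_bot c ((mb_sz h1 h2).congr f)))
  · exact .inl (pl (center_eq_bot c ((mb_tf4 h1 h2).congr f)))
  · exact absurd h0 (by norm_num)

/-- **`BoxO.two`** from the simple groups, `SL_n(q)`, `SU_n(q)` and the triple covers of `E₆(q)`, `²E₆(q)`. -/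
theorem rowO_two (hS : RowS fun S _ => IsLieTypeChar 2 S)
    (hL : ∀ (F : Type) [Field F] [Fintype F] [CharP F 2] (n : ℕ), 2 ≤ n → (n = 2 → 4 ≤ Fintype.card F) →
      OddRat (SpecialLinearGroup (Fin n) F))
    (hU : ∀ (F : Type) [Field F] [Fintype F] [CharP F 2] (n q : ℕ), Fintype.card F = q ^ 2 → 3 ≤ n →
      ¬ (n = 3 ∧ q = 2) → OddRat (SU n F q))
    (h6 : ∀ (X : Type) [Group X] [Finite X] (F : Type) [Field F] [Fintype F] [CharP F 2], IsQuasisimple X →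
      3 ∣ Fintype.card F - 1 → Nat.card (center X) = 3 → (X ⧸ center X ≃* Lie.chevE6.group F) → OddRat X)
    (ht : ∀ (X : Type) [Group X] [Finite X] (F : Type) [Field F] [Fintype F] [CharP F 2] (q : ℕ), IsQuasisimple X →
      IsPrimePow q → Fintype.card F = q ^ 2 → 3 ∣ q + 1 → Nat.card (center X) = 3 →
      (X ⧸ center X ≃* Lie.twistedE6 F q) → OddRat X) :
    RowO fun S _ => IsLieTypeChar 2 S := by
  intro X _ _ c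
  rcases two_cases c with ⟨h1, h2⟩ | ⟨F, _, _, _, n, φ, h1, h2, h3, -⟩ | ⟨F, _, _, _, n, q, φ, h1, h2, h3, h4, -⟩ |
    ⟨F, _, _, _, h1, h2, ⟨e⟩⟩ | ⟨F, _, _, _, q, h1, h2, h3, h4, ⟨e⟩⟩
  · exact hS X h2
  · exact oddRat_of_surj φ h3 (hL F n h1 h2)
  · exact oddRat_of_surj φ h4 (hU F n q h1 h2 h3)
  · exact h6 X F c.qs h1 h2 e
  · exact ht X F q c.qs h1 h2 h3 h4 e

end Cfsg.Agent.ODD.Cv
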