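import Cfsg.Agent.ODD.Cov.Basic
import Cfsg.Agent.S2092
import Cfsg.Agent.S2093
import Cfsg.Agent.S2094
import Cfsg.Agent.S2095
import Cfsg.Agent.S2096
import Cfsg.Agent.S2097
import Cfsg.Agent.S2098
import Cfsg.Agent.S2099
import Cfsg.Agent.S2100
import Cfsg.Agent.S2101
import Cfsg.Agent.S2102
import Cfsg.Agent.S2103
import Cfsg.Agent.S2104
import Cfsg.Agent.S2105
import Cfsg.Agent.S2106
import Cfsg.Agent.S2107
import Cfsg.Agent.S2108
import Cfsg.Agent.S2109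
import Cfsg.Agent.S2110
import Cfsg.Agent.S2111
import Cfsg.Agent.S2112
import Cfsg.Agent.S2113
import Cfsg.Agent.S2114
import Cfsg.Agent.S2115

/-!
# ODD, covers: the families with a trivial odd part of the multiplier (helper4)

* `mb_*`: the bounds for the multipliers, every characteristic;
* `plain_*`: `Plain K`, so that `(plain_* ).rowO : RowS K → RowO K`;
* `podd_cases`, `g2_cases`, `rowO_podd`, `rowO_g2`: the exceptions `O₇(3)` and `G₂(3)`;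
* `e6_center`, `tw_center`: the centre of a cover of `E₆(q)`, `²E₆(q)`.
-/

set_option autoImplicit false
set_option maxHeartbeats 400000

namespace Cfsg.Agent.ODD.Cv

open Cfsg Cfsg.Agent.ODD Subgroup

section mb

variable {F : Type} [Field F] [Fintype F]

theorem card_zmod2 (a b : ℕ) : Nat.card (Multiplicative (ZMod a × ZMod b)) = a * b := by
  rw [Nat.card_congr Multiplicative.toAdd, Nat.card_prod, Nat.card_zmod, Nat.card_zmod]

theorem card_zmod3 (a b c : ℕ) : Nat.card (Multiplicative (ZMod a × ZMod b × ZMod c)) = a * (b * c) := by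
  rw [Nat.card_congr Multiplicative.toAdd, Nat.card_prod, Nat.card_prod, Nat.card_zmod, Nat.card_zmod, Nat.card_zmod]

theorem mb_psp {m : ℕ} (hm : 2 ≤ m) (h2 : m = 2 → 3 ≤ Fintype.card F) : MB (PSp m F) (2 ^ 1) := by
  by_cases h : m = 3 ∧ Fintype.card F = 2
  · obtain ⟨rfl, h⟩ := h
    exact MB.of_cyc (S2093.result h)
  · exact (MB.of_cyc (S2092.result rfl m hm h2 h)).mono (Nat.gcd_dvd_left _ _)

theorem mb_podd (hF : Odd (Fintype.card F)) {m : ℕ} (hm : 3 ≤ m) (h : ¬ (m = 3 ∧ Fintype.card F = 3)) :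
    MB (POmega F (quadFormOdd m F)) (2 ^ 1) :=
  MB.of_cyc (S2094.result rfl hF m hm h)

theorem mb_o73 (hF : Fintype.card F = 3) : MB (POmega F (quadFormOdd 3 F)) 6 := MB.of_cyc (S2095.result hF)

theorem mb_plus {m : ℕ} (hm : 4 ≤ m) : MB (POmega F (quadFormPlus m F)) (2 ^ 2) := by
  rcases Nat.even_or_odd m with h | h
  · by_cases h1 : m = 4 ∧ Fintype.card F = 2
    · obtain ⟨rfl, h1⟩ := h1
      have h2 := MB.of_mult (S2098.result h1)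
      rwa [card_zmod2] at h2
    · have h2 := MB.of_mult (S2097.result rfl m hm h h1)
      rw [card_zmod2] at h2
      exact h2.mono (mul_dvd_mul (Nat.gcd_dvd_left _ _) (Nat.gcd_dvd_left _ _))
  · have h5 : 5 ≤ m := by
      obtain ⟨k, rfl⟩ := h
      omega
    exact (MB.of_cyc (S2096.result rfl m h5 h)).mono (Nat.gcd_dvd_left _ _)

theorem mb_minus {m : ℕ} (hm : 4 ≤ m) {a b : F}
    (hab : ∀ z₁ z₂ : F, z₁ ^ 2 + a * z₁ * z₂ + b * z₂ ^ 2 = 0 → z₁ = 0 ∧ z₂ = 0) :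
    MB (POmega F (quadFormMinus (m - 1) F a b)) (2 ^ 2) :=
  (MB.of_cyc (S2099.result rfl m hm a b hab)).mono (Nat.gcd_dvd_left _ _)

theorem mb_g2 (hF : 4 ≤ Fintype.card F) : MB (Lie.chevG2.group F) (2 ^ 1) := by
  by_cases h : Fintype.card F = 4
  · exact MB.of_cyc (S2102.result h)
  · exact (MB.of_cyc (S2100.result (by omega))).mono (one_dvd _)

theorem mb_g23 (hF : Fintype.card F = 3) : MB (Lie.chevG2.group F) 3 := MB.of_cyc (S2101.result hF)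

theorem mb_f4 : MB (Lie.chevF4.group F) (2 ^ 1) := by
  by_cases h : Fintype.card F = 2
  · exact MB.of_cyc (S2104.result h)
  · have := Fintype.one_lt_card (α := F)
    exact (MB.of_cyc (S2103.result (by omega))).mono (one_dvd _)

theorem mb_e6 : MB (Lie.chevE6.group F) (Nat.gcd 3 (Fintype.card F - 1)) := MB.of_cyc (S2105.result rfl)

theorem mb_e7 : MB (Lie.chevE7.group F) (2 ^ 1) := (MB.of_cyc (S2106.result rfl)).mono (Nat.gcd_dvd_left _ _)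

theorem mb_e8 : MB (Lie.chevE8.group F) (2 ^ 0) := MB.of_cyc S2107.result

theorem mb_tw {q : ℕ} (hq : IsPrimePow q) (hF : Fintype.card F = q ^ 2) :
    MB (Lie.twistedE6 F q) (Nat.gcd 3 (q + 1) * 2 ^ 2) := by
  by_cases h : q = 2
  · subst h
    have h2 := MB.of_mult (S2109.result hF)
    rwa [card_zmod3] at h2
  · exact (MB.of_cyc (S2108.result hq hF h)).mono (dvd_mul_right _ _)

theorem mb_d4 {q : ℕ} (hq : IsPrimePow q) (hF : Fintype.card F = q ^ 3) : MB (Lie.twistedD4 F q) (2 ^ 0) :=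
  MB.of_cyc (S2110.result hq hF)

theorem mb_sz {m : ℕ} (hm : 1 ≤ m) (hF : Fintype.card F = 2 ^ (2 * m + 1)) :
    MB (Lie.Sz F (2 ^ (m + 1))) (2 ^ 2) := by
  by_cases h : m = 1
  · subst h
    have h2 := MB.of_mult (S2112.result hF)
    rwa [card_zmod2] at h2
  · exact (MB.of_cyc (S2111.result (by omega) hF)).mono (one_dvd _)

theorem mb_ree {m : ℕ} (hm : 1 ≤ m) (hF : Fintype.card F = 3 ^ (2 * m + 1)) :
    MB (Lie.twistedG2 F (3 ^ m)) (2 ^ 0) :=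
  MB.of_cyc (S2113.result hm hF)

theorem mb_tf4 {m : ℕ} (hm : 1 ≤ m) (hF : Fintype.card F = 2 ^ (2 * m + 1)) :
    MB (Lie.twistedF4 F (2 ^ m)) (2 ^ 0) :=
  MB.of_cyc (S2114.result hm hF)

theorem mb_tits : MB Lie.TitsGroup (2 ^ 0) := MB.of_cyc S2115.result

theorem three_le (h : Odd (Fintype.card F)) : 3 ≤ Fintype.card F := by
  have := Fintype.one_lt_card (α := F)
  obtain ⟨k, hk⟩ := h
  omega

end mb

/-! ### isomorphism invariance -/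

theorem iso_psl : Iso PslO := fun _ _ _ _ e ⟨F, a, b, n, h1, h2, h3, ⟨f⟩⟩ => ⟨F, a, b, n, h1, h2, h3, ⟨e.trans f⟩⟩

theorem iso_psp : Iso PspO := fun _ _ _ _ e ⟨F, a, b, n, h1, h2, ⟨f⟩⟩ => ⟨F, a, b, n, h1, h2, ⟨e.trans f⟩⟩

theorem iso_psu : Iso PsuO :=
  fun _ _ _ _ e ⟨F, a, b, n, q, h1, h2, h3, ⟨f⟩⟩ => ⟨F, a, b, n, q, h1, h2, h3, ⟨e.trans f⟩⟩

theorem iso_podd : Iso fun S _ => IsPOmegaOdd S :=
  fun _ _ _ _ e ⟨F, a, b, n, h1, h2, ⟨f⟩⟩ => ⟨F, a, b, n, h1, h2, ⟨e.trans f⟩⟩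

theorem iso_plus : Iso PlusO := fun _ _ _ _ e ⟨F, a, b, n, h1, h2, ⟨f⟩⟩ => ⟨F, a, b, n, h1, h2, ⟨e.trans f⟩⟩

theorem iso_minus : Iso MinusO :=
  fun _ _ _ _ e ⟨F, a, b, n, x, y, h1, h2, h3, ⟨f⟩⟩ => ⟨F, a, b, n, x, y, h1, h2, h3, ⟨e.trans f⟩⟩

theorem iso_chev (D : Lie.ChevalleyDatum) : Iso (ChevO D) :=
  fun _ _ _ _ e ⟨F, a, b, h1, ⟨f⟩⟩ => ⟨F, a, b, h1, ⟨e.trans f⟩⟩

theorem iso_tw : Iso TwE6O :=
  fun _ _ _ _ e ⟨F, a, b, q, h1, h2, h3, ⟨f⟩⟩ => ⟨F, a, b, q, h1, h2, h3, ⟨e.trans f⟩⟩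

theorem iso_d4 : Iso TwD4O :=
  fun _ _ _ _ e ⟨F, a, b, q, h1, h2, h3, ⟨f⟩⟩ => ⟨F, a, b, q, h1, h2, h3, ⟨e.trans f⟩⟩

theorem iso_ree : Iso fun S _ => Lie.IsoRee S :=
  fun _ _ _ _ e ⟨F, a, b, m, h1, h2, ⟨f⟩⟩ => ⟨F, a, b, m, h1, h2, ⟨e.trans f⟩⟩

theorem iso_tits : Iso fun S _ => Lie.IsoTits S := fun _ _ _ _ e ⟨f⟩ => ⟨e.trans f⟩

/-! ### odd characteristic -/

theorem plain_psp : Plain PspO :=
  plain_of iso_psp fun _ _ ⟨_, _, _, _, h1, h2, ⟨f⟩⟩ => ⟨_, (mb_psp h2 fun _ => three_le h1).congr f⟩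

theorem plain_plus : Plain PlusO :=
  plain_of iso_plus fun _ _ ⟨_, _, _, _, _, h2, ⟨f⟩⟩ => ⟨_, (mb_plus h2).congr f⟩

theorem plain_minus : Plain MinusO :=
  plain_of iso_minus fun _ _ ⟨_, _, _, _, _, _, _, h2, h3, ⟨f⟩⟩ => ⟨_, (mb_minus h2 h3).congr f⟩

theorem plain_f4 : Plain (ChevO Lie.chevF4) :=
  plain_of (iso_chev _) fun _ _ ⟨_, _, _, _, ⟨f⟩⟩ => ⟨_, mb_f4.congr f⟩

theorem plain_e7 : Plain (ChevO Lie.chevE7) :=
  plain_of (iso_chev _) fun _ _ ⟨_, _, _, _, ⟨f⟩⟩ => ⟨_, mb_e7.congr f⟩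

theorem plain_e8 : Plain (ChevO Lie.chevE8) :=
  plain_of (iso_chev _) fun _ _ ⟨_, _, _, _, ⟨f⟩⟩ => ⟨_, mb_e8.congr f⟩

theorem plain_d4 : Plain TwD4O :=
  plain_of iso_d4 fun _ _ ⟨_, _, _, _, _, h2, h3, ⟨f⟩⟩ => ⟨_, (mb_d4 h2 h3).congr f⟩

theorem plain_ree : Plain fun S _ => Lie.IsoRee S :=
  plain_of iso_ree fun _ _ ⟨_, _, _, _, h1, h2, ⟨f⟩⟩ => ⟨_, (mb_ree h1 h2).congr f⟩

theorem plain_tits : Plain fun S _ => Lie.IsoTits S :=
  plain_of iso_tits fun _ _ ⟨f⟩ => ⟨_, mb_tits.congr f⟩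

/-! ### the exceptions in characteristic `3` -/

/-- `O₇(3)` -/
def O73 (S : Type) [Group S] : Prop :=
  ∃ (F : Type) (_ : Field F) (_ : Fintype F), Fintype.card F = 3 ∧ Nonempty (S ≃* POmega F (quadFormOdd 3 F))

/-- `G₂(3)` -/
def G23 (S : Type) [Group S] : Prop :=
  ∃ (F : Type) (_ : Field F) (_ : Fintype F), Fintype.card F = 3 ∧ Nonempty (S ≃* Lie.chevG2.group F)

theorem podd_cases {X : Type} [Group X] [Finite X] (c : Cov (fun S _ => IsPOmegaOdd S) X) :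
    (IsSimpleGroup X ∧ IsPOmegaOdd X) ∨ Cov O73 X := by
  obtain ⟨F, _, _, m, h1, h2, ⟨f⟩⟩ := c.fam
  by_cases h : m = 3 ∧ Fintype.card F = 3
  · obtain ⟨rfl, h⟩ := h
    exact .inr (cov_of c ⟨F, _, _, h, ⟨f⟩⟩)
  · have hZ := center_eq_bot c ((mb_podd h2 h1 h).congr f)
    exact .inl ⟨simple_of c hZ, iso_podd _ _ (eqv hZ) c.fam⟩

theorem g2_cases {X : Type} [Group X] [Finite X] (c : Cov (ChevO Lie.chevG2) X) :
    (IsSimpleGroup X ∧ ChevO Lie.chevG2 X) ∨ Cov G23 X := by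
  obtain ⟨F, _, _, h2, ⟨f⟩⟩ := c.fam
  by_cases h : Fintype.card F = 3
  · exact .inr (cov_of c ⟨F, _, _, h, ⟨f⟩⟩)
  · have h3 := three_le h2
    have hZ := center_eq_bot c ((mb_g2 (by omega)).congr f)
    exact .inl ⟨simple_of c hZ, iso_chev _ _ _ (eqv hZ) c.fam⟩

theorem rowO_podd (hS : RowS fun S _ => IsPOmegaOdd S) (h : RowO O73) : RowO fun S _ => IsPOmegaOdd S := by
  intro X _ _ c
  rcases podd_cases c with ⟨h1, h2⟩ | h1
  · exact hS X h2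
  · exact h X h1

theorem rowO_g2 (hS : RowS (ChevO Lie.chevG2)) (h : RowO G23) : RowO (ChevO Lie.chevG2) := by
  intro X _ _ c
  rcases g2_cases c with ⟨h1, h2⟩ | h1
  · exact hS X h2
  · exact h X h1

/-! ### `E₆`, `²E₆` -/

theorem e6_center {K : Fam} {X : Type} [Group X] [Finite X] (c : Cov K X) {F : Type} [Field F] [Fintype F]
    (e : X ⧸ center X ≃* Lie.chevE6.group F) : Nat.card (center X) ∣ Nat.gcd 3 (Fintype.card F - 1) :=
  card_center_dvd c (mb_e6.congr e)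

theorem tw_center {K : Fam} {X : Type} [Group X] [Finite X] (c : Cov K X) {F : Type} [Field F] [Fintype F] {q : ℕ}
    (hq : IsPrimePow q) (hF : Fintype.card F = q ^ 2) (e : X ⧸ center X ≃* Lie.twistedE6 F q) :
    Nat.card (center X) ∣ Nat.gcd 3 (q + 1) :=
  (Nat.Coprime.pow_right 2 (Nat.coprime_two_right.2 c.odd)).dvd_of_dvd_mul_right
    (card_center_dvd c ((mb_tw hq hF).congr e))

end Cfsg.Agent.ODD.Cv
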