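import Cfsg.Agent.ODD.PX.Fold
import Cfsg.Agent.ODD.Cov.Fam
import Cfsg.Agent.H310.OQ.TwE6

/-!
# ODD, covers: the odd covers of `E₆(q)` and `²E₆(q)`, `q` odd (helper4)

* `prj e`: the map of `X` onto the simple group; `e6_ce`, `tw_ce`: it is a central extension prime to `2 p`;
* `e6_lift`: the datum `InS` of a cover of `E₆(q)` with exact coroot data;
* `tw_nodes`, `tw_lift`: the datum `InS` of a cover of `²E₆(q)` with the exact action of the `n i` on the coroots.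
-/

set_option autoImplicit false
set_option linter.unusedSectionVars false
set_option maxHeartbeats 400000

namespace Cfsg.Agent.ODD.Cv

open Cfsg Matrix Cfsg.Agent.ODD.PX
open CoxeterSystem Cfsg.Agent.ChevalleyStructure.CoxeterGeom Cfsg.Agent.Tits.Roots Cfsg.Agent.Nodes.Reps
  Cfsg.Agent.Nodes.BNOf Cfsg.Agent.Nodes.Bruhat Cfsg.Agent.H684.OQ Cfsg.Agent.H310.OQ Cfsg.Agent.Nodes.RGDLift
open Cfsg.Lie Cfsg.Agent.ChevalleyStructure Cfsg.Agent.ChevalleyStructure.Elts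
  Cfsg.Agent.ChevalleyStructure.CoxeterGeomTypes Cfsg.Agent.Nodes.RGDChev Cfsg.Agent.Nodes.RGDFold

section ce

variable {K : Fam} {X S : Type} [Group X] [Finite X] [Group S]

/-- the map onto the simple group -/
def prj (e : X ⧸ Subgroup.center X ≃* S) : X →* S := e.toMonoidHom.comp (QuotientGroup.mk' (Subgroup.center X))

theorem ker_prj (e : X ⧸ Subgroup.center X ≃* S) : (prj e).ker = Subgroup.center X := by
  ext x
  simp [prj]

theorem ce_of [Finite S] (c : Cov K X) (e : X ⧸ Subgroup.center X ≃* S) {p m : ℕ} (hp : p.Prime)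
    (hm : Nat.card (Subgroup.center X) ∣ Nat.gcd 3 m) (h3 : p = 3 → ¬ 3 ∣ m) :
    CE p (prj e) ∧ (p = 3 → Function.Injective (prj e)) := by
  have key : p = 3 → Nat.card (Subgroup.center X) = 1 := by
    intro h
    rcases (Nat.dvd_prime Nat.prime_three).1 (hm.trans (Nat.gcd_dvd_left _ _)) with h1 | h1
    · exact h1
    · exact absurd (h1 ▸ hm.trans (Nat.gcd_dvd_right _ _)) (h3 h)
  refine ⟨⟨e.surjective.comp (QuotientGroup.mk'_surjective _), (ker_prj e).le, ?_, by rw [ker_prj]; exact c.odd⟩,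
    fun h => ?_⟩
  · rw [ker_prj]
    by_cases h : p = 3
    · rw [key h]
      exact Nat.coprime_one_left p
    · exact Nat.Coprime.coprime_dvd_left (hm.trans (Nat.gcd_dvd_left _ _))
        ((Nat.coprime_primes Nat.prime_three hp).2 (Ne.symm h))
  · rw [← MonoidHom.ker_eq_bot_iff, ker_prj]
    exact Subgroup.card_eq_one.1 (key h)

variable {F : Type} [Field F] [Fintype F]

theorem char_dvd (p : ℕ) [CharP F p] : p ∣ Fintype.card F := by
  have : Fact p.Prime := ⟨CharP.char_is_prime F p⟩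
  obtain ⟨m, -, hm⟩ := FiniteField.card F p
  rw [hm]
  exact dvd_pow_self p m.pos.ne'

theorem e6_ce (c : Cov K X) (e : X ⧸ Subgroup.center X ≃* chevE6.group F) (p : ℕ) [CharP F p] :
    CE p (prj e) ∧ (p = 3 → Function.Injective (prj e)) := by
  refine ce_of c e (CharP.char_is_prime F p) (e6_center c e) ?_
  rintro rfl h
  have h1 := char_dvd (F := F) 3
  have h2 := Fintype.card_pos (α := F)
  omega

theorem tw_ce (c : Cov K X) {q : ℕ} (hq : IsPrimePow q) (hF : Fintype.card F = q ^ 2)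
    (e : X ⧸ Subgroup.center X ≃* twistedE6 F q) (p : ℕ) [CharP F p] :
    CE p (prj e) ∧ (p = 3 → Function.Injective (prj e)) := by
  refine ce_of c e (CharP.char_is_prime F p) (tw_center c hq hF e) ?_
  rintro rfl h
  have h1 := char_dvd (F := F) 3
  rw [hF] at h1
  have h2 := Nat.prime_three.dvd_of_dvd_pow h1
  omega

end ce

section e6

variable {K : Fam} {X : Type} [Group X] [Finite X] {F : Type} [Field F] [Fintype F]

theorem hp6 : IsType chevE6 6 CoxeterMatrix.E₆ := Nodes.RGDTwE6.hp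

/-- **The datum of an odd cover of `E₆(q)`.** -/
theorem e6_lift (c : Cov K X) (e : X ⧸ Subgroup.center X ≃* chevE6.group F) (p : ℕ) [CharP F p] (hp2 : p ≠ 2)
    {W : Type} [Group W] [Finite W] (cs : CoxeterSystem CoxeterMatrix.E₆ W) :
    ∃ (Φ : Fin 6 → (SpecialLinearGroup (Fin 2) F →* X))
      (_ : InS p cs hp6.isCartan (((chevE6.diagonalSubgroup F).subgroupOf (chevE6.group F)).comap (prj e))
        (fun x => lft p (prj e) ((XV chevE6 6 F x).subgroupOf (chevE6.group F))) (k := fun _ => F) Φ),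
      (∀ i g, prj e (Φ i g) = phi hp6 F i g) ∧ (∀ i g, phi hp6 F i g = 1 → Φ i g = 1) ∧
      ∀ i j (a : Fˣ), Φ i ww * Φ j (dd a) * (Φ i ww)⁻¹ = Φ j (dd a) * Φ i (dd a) ^ (-cartanOf chevE6 6 j i) := by
  have hpp : p.Prime := CharP.char_is_prime F p
  have h2 : (2 : F) ≠ 0 := fun h =>
    hp2 ((Nat.prime_dvd_prime_iff_eq hpp Nat.prime_two).1 ((CharP.cast_eq_zero_iff F p 2).1 (by exact_mod_cast h)))
  have S := inS_chev hp6 F p h2 (by decide +kernel) cs
  obtain ⟨E, h3⟩ := e6_ce c e p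
  obtain ⟨Φ, h4, h5, S'⟩ := S.lift hpp hp2 E (perfect c) h3
  refine ⟨Φ, S', h4, h5, fun i j a => ?_⟩
  rw [← map_zpow]
  refine S'.conj_lift h4 h5 (S'.d j a) ?_
  rw [h4, phi_conj hp6 S i j a, map_zpow]

end e6

section tw

open Cfsg.Agent.Nodes.RGDTwE6 Cfsg.Agent.H310.OQ.TwE6
open Cfsg.Agent.ChevalleyStructure.TwE6Basic (posE negE sg fix n exists_frob twisted_le_fix twisted_le_iff x)
open Cfsg.Agent.ChevalleyStructure.TwE6BN (rs rs_le x_mem_rs rs_single PairOK SingleOK)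

variable {F : Type} [Field F] {q : ℕ} {φ : F →+* F}

theorem tw_single [Fintype F] (hφ : ∀ x, φ x = x ^ q) (hqq : ∀ t : F, (t ^ q) ^ q = t) {i : Fin 4} {j₀ : Fin 6}
    (hJ : Nodes.RGDTwE6.J i = [j₀]) (C : SingleOK.{0} i (chevE6.simple j₀)) :
    ∃ Φ, NodeX hp F Nodes.RGDTwE6.J (sg φ) (twistedE6 F q) i (k := RingHom.eqLocusField φ (RingHom.id F))
      (fun _ => (RingHom.eqLocusField φ (RingHom.id F)).subtype) Φ := by
  have hr := NPerm.simple_lt hp.inList (lt_rank hp j₀)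
  let F₀ : Subfield F := RingHom.eqLocusField φ (RingHom.id F)
  have hF : ∀ t : F₀, φ t.1 = t.1 := fun t => t.2
  obtain ⟨Φ, hB, hu, hl⟩ := exists_blk_single hp j₀ (k := F₀) F₀.subtype
  have hle := twisted_le_fix φ hφ hqq
  refine ⟨Φ, ?_, fun t => ?_, fun t => ?_, fun g => ?_, fun t ht => ?_, fun t => ?_, fun c => ?_⟩
  · rw [hJ]; exact hB
  · rw [hu]
    exact C.pos_mem_G (by rw [← hφ]; exact hF t)
  · rw [hl]
    exact TwE6Basic.single_mem (by rw [← hφ]; exact hF t) C.words.2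
  · rw [R_pos]
    constructor
    · rintro ⟨h1, h2⟩
      rw [C.pos] at h1
      obtain ⟨t, rfl⟩ := rs_single h1
      exact ⟨⟨t, C.fix_pos h2⟩, by rw [hu]; rfl⟩
    · rintro ⟨t, rfl⟩
      rw [hu]
      exact ⟨x_mem_rs (by rw [C.pos]; simp) _, hle (C.pos_mem_G (by rw [← hφ]; exact hF t))⟩
  · rw [hu] at ht
    exact Subtype.ext ((xG_eq_one_iff hp.inList hr _).1 ht)
  · rw [hu, hJ]
    exact (List.prod_singleton).symm
  · rw [blk_dd hp hu hl, hJ]
    exact (List.prod_singleton).symm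

/-- the embeddings: the identity on the nodes `0, 1, 2, 3` of `E₆`, the Frobenius map on the nodes `4, 5` -/
def psi6 (φ : F →+* F) : Fin 6 → (F →+* F) := ![RingHom.id F, RingHom.id F, RingHom.id F, RingHom.id F, φ, φ]

theorem tw_pair [Fintype F] (hφ : ∀ x, φ x = x ^ q) (hqq : ∀ t : F, (t ^ q) ^ q = t) {i : Fin 4} {j₀ j₁ : Fin 6}
    (hJ : Nodes.RGDTwE6.J i = [j₀, j₁]) (C : PairOK.{0} i (chevE6.simple j₀) (chevE6.simple j₁))
    (h0 : psi6 φ j₀ = RingHom.id F) (h1 : psi6 φ j₁ = φ) :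
    ∃ Φ, NodeX hp F Nodes.RGDTwE6.J (sg φ) (twistedE6 F q) i (k := F) (psi6 φ) Φ := by
  have hr := NPerm.simple_lt hp.inList (lt_rank hp j₀)
  obtain ⟨Φ₀, hB₀, hu₀, hl₀⟩ := exists_blk_single hp j₀ (k := F) (RingHom.id F)
  obtain ⟨Φ₁, hB₁, hu₁, hl₁⟩ := exists_blk_single hp j₁ (k := F) φ
  have hle := twisted_le_fix φ hφ hqq
  have hc : ∀ a b, Commute (Φ₀ a) (Φ₁ b) := by
    refine commute_of Φ₀ Φ₁ (fun s t => ?_) (fun s t => ?_) (fun s t => ?_) (fun s t => ?_)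
    · rw [hu₀, hu₁]; exact (C.comm1 _ _).symm
    · rw [hu₀, hl₁]; exact (C.comm2 _ _).symm
    · rw [hl₀, hu₁]; exact (C.comm3 _ _).symm
    · rw [hl₀, hl₁]; exact (C.comm4 _ _).symm
  obtain ⟨Φ, hB, hΦ⟩ := hB₀.cons hp hB₁ hc
  have hu : ∀ t, Φ (uu t) = x (chevE6.simple j₀) t * x (chevE6.simple j₁) (φ t) := by
    intro t; rw [hΦ, hu₀, hu₁]; rfl
  have hl : ∀ t, Φ (ll t) = x (chevE6.neg (chevE6.simple j₀)) t * x (chevE6.neg (chevE6.simple j₁)) (φ t) := by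
    intro t; rw [hΦ, hl₀, hl₁]; rfl
  refine ⟨Φ, ?_, fun t => ?_, fun t => ?_, fun g => ?_, fun t ht => ?_, fun t => ?_, fun c => ?_⟩
  · rw [hJ]; exact hB
  · rw [hu, hφ]; exact C.pos_mem_G t
  · rw [hl, hφ]; exact C.neg_mem_G t
  · rw [R_pos]
    constructor
    · rintro ⟨h1, h2⟩
      obtain ⟨t, s, rfl⟩ := C.mem_pos h1
      exact ⟨t, by rw [hu, C.fix_pos h2]⟩
    · rintro ⟨t, rfl⟩
      rw [hu]
      refine ⟨mul_mem (x_mem_rs (by rw [C.pos]; simp) _) (x_mem_rs (by rw [C.pos]; simp) _), hle ?_⟩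
      rw [hφ]; exact C.pos_mem_G t
  · rw [hu] at ht
    have h1 : x (chevE6.simple j₀) t * x (chevE6.simple j₁) (φ t) =
        x (chevE6.simple j₀) 0 * x (chevE6.simple j₁) 0 := by
      rw [ht, TwE6Basic.x_zero, TwE6Basic.x_zero, mul_one]
    exact (C.x_pair_inj h1).1
  · rw [hΦ, hu₀, hu₁, hJ, List.map_cons, List.map_cons, List.map_nil, List.prod_cons, List.prod_singleton, h0, h1]
  · rw [hΦ, blk_dd hp hu₀ hl₀, blk_dd hp hu₁ hl₁, hJ, List.map_cons, List.map_cons, List.map_nil, List.prod_cons,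
      List.prod_singleton, h0, h1]

/-- the fields of the four nodes -/
def k4 (φ : F →+* F) : Fin 4 → Type :=
  Fin.cons ↥(RingHom.eqLocusField φ (RingHom.id F)) (Fin.cons ↥(RingHom.eqLocusField φ (RingHom.id F)) fun _ => F)

/-- the field structures -/
@[reducible] noncomputable def k4Field (φ : F →+* F) : ∀ i, Field (k4 φ i) :=
  Fin.cases (inferInstanceAs (Field ↥(RingHom.eqLocusField φ (RingHom.id F))))
    (Fin.cases (inferInstanceAs (Field ↥(RingHom.eqLocusField φ (RingHom.id F)))) fun _ => inferInstanceAs (Field F))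

/-- the exponents: `n i * g j * (n i)⁻¹ = g j * g i ^ twc q i j` -/
def twc (q : ℕ) : Fin 4 → Fin 4 → ℤ := ![![-2, 1, 0, 0], ![1, -2, 1, 0], ![0, q + 1, -2, 1], ![0, 0, 1, -2]]

theorem tw_cart : ∀ b s : Fin 6, chevE6.cartan b (chevE6.simple s) =
    ![![2, 0, -1, 0, 0, 0], ![0, 2, 0, -1, 0, 0], ![-1, 0, 2, -1, 0, 0], ![0, -1, -1, 2, -1, 0],
      ![0, 0, 0, -1, 2, -1], ![0, 0, 0, 0, -1, 2]] b s := by decide +kernel

/-- **The datum of `²E₆(q)`** with the generators `ω i` (`γ ^ (q + 1)` on the nodes `0, 1`, `γ` on the nodes `2, 3`). -/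
theorem tw_nodes [Fintype F] (hq : IsPrimePow q) (hF : Fintype.card F = q ^ 2) (hφ : ∀ x, φ x = x ^ q)
    (hqq : ∀ t : F, (t ^ q) ^ q = t) (p : ℕ) [CharP F p] (h2 : (2 : F) ≠ 0) [Finite CoxeterMatrix.F₄.Group] :
    letI := k4Field φ
    ∃ (Φ : ∀ i, SpecialLinearGroup (Fin 2) (k4 φ i) →* ↥(twistedE6 F q)) (ω : ∀ i, (k4 φ i)ˣ),
      InS p CoxeterMatrix.F₄.toCoxeterSystem isCartan (T F q) (X φ q) Φ ∧ (∀ i c, c ∈ Subgroup.zpowers (ω i)) ∧
      (∀ i, orderOf (ω i) = ![q - 1, q - 1, q ^ 2 - 1, q ^ 2 - 1] i) ∧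
      ∀ i j, Φ i ww * Φ j (dd (ω j)) * (Φ i ww)⁻¹ = Φ j (dd (ω j)) * Φ i (dd (ω i)) ^ twc q i j := by
  let _ := k4Field φ
  have hq2 : 2 ≤ q := hq.two_le
  obtain ⟨Φ₀, N₀⟩ := tw_single hφ hqq (i := 0) (j₀ := 1) rfl (by
    rw [show chevE6.simple ((1 : Fin 6) : ℕ) = 46 by decide +kernel]; exact TwE6BN.single0)
  obtain ⟨Φ₁, N₁⟩ := tw_single hφ hqq (i := 1) (j₀ := 3) rfl (by
    rw [show chevE6.simple ((3 : Fin 6) : ℕ) = 39 by decide +kernel]; exact TwE6BN.single1)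
  obtain ⟨Φ₂, N₂⟩ := tw_pair hφ hqq (i := 2) (j₀ := 2) (j₁ := 4) rfl (by
    rw [show chevE6.simple ((2 : Fin 6) : ℕ) = 42 by decide +kernel,
      show chevE6.simple ((4 : Fin 6) : ℕ) = 37 by decide +kernel]; exact TwE6BN.pair2) rfl rfl
  obtain ⟨Φ₃, N₃⟩ := tw_pair hφ hqq (i := 3) (j₀ := 0) (j₁ := 5) rfl (by
    rw [show chevE6.simple ((0 : Fin 6) : ℕ) = 56 by decide +kernel,
      show chevE6.simple ((5 : Fin 6) : ℕ) = 36 by decide +kernel]; exact TwE6BN.pair3) rfl rfl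
  have _ : ∀ i, Finite (k4 φ i) :=
    Fin.cases (inferInstanceAs (Finite ↥(RingHom.eqLocusField φ (RingHom.id F))))
      (Fin.cases (inferInstanceAs (Finite ↥(RingHom.eqLocusField φ (RingHom.id F))))
        fun _ => inferInstanceAs (Finite F))
  let ψ : ∀ i, Fin 6 → (k4 φ i →+* F) := fun i => match i with
    | 0 => fun _ => (RingHom.eqLocusField φ (RingHom.id F)).subtype
    | 1 => fun _ => (RingHom.eqLocusField φ (RingHom.id F)).subtype
    | 2 => psi6 φ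
    | 3 => psi6 φ
  let Φ : ∀ i, SpecialLinearGroup (Fin 2) (k4 φ i) →* GL chevE6.Idx F := fun i => match i with
    | 0 => Φ₀
    | 1 => Φ₁
    | 2 => Φ₂
    | 3 => Φ₃
  have N : ∀ i, NodeX hp F Nodes.RGDTwE6.J (sg φ) (twistedE6 F q) i (ψ i) (Φ i) := fun i => match i with
    | 0 => N₀
    | 1 => N₁
    | 2 => N₂
    | 3 => N₃
  have S := inS_fold foldData (foldGrp hφ hqq) isCartan p h2 (by decide +kernel) N par H310.OQ.TwE6.cls
  obtain ⟨γ, hγ⟩ := IsCyclic.exists_generator (α := Fˣ)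
  have he : Fintype.card F - 1 = (q + 1) * (q - 1) := by
    obtain ⟨r, rfl⟩ : ∃ r, q = r + 1 := ⟨q - 1, by omega⟩
    rw [hF, Nat.add_sub_cancel]
    apply Nat.sub_eq_of_eq_add
    ring
  obtain ⟨ω₀, hω₀, hgen₀⟩ := exists_gen_fix hφ hq2 he hγ
  let ω : ∀ i, (k4 φ i)ˣ := fun i => match i with
    | 0 => ω₀
    | 1 => ω₀
    | 2 => γ
    | 3 => γ
  have hω : ∀ i c, c ∈ Subgroup.zpowers (ω i) := fun i => match i with
    | 0 => hgen₀
    | 1 => hgen₀
    | 2 => hγ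
    | 3 => hγ
  have hoγ : orderOf γ = q ^ 2 - 1 := by
    classical
    rw [orderOf_eq_card_of_forall_mem_zpowers hγ, Nat.card_eq_fintype_card, Fintype.card_units, hF]
  have ho₀ : orderOf ω₀ = q - 1 := by
    have h1 : Units.map (RingHom.eqLocusField φ (RingHom.id F)).subtype.toMonoidHom ω₀ = γ ^ (q + 1) :=
      Units.ext (hω₀.trans (Units.val_pow_eq_pow_val _ _).symm)
    rw [← orderOf_injective (Units.map (RingHom.eqLocusField φ (RingHom.id F)).subtype.toMonoidHom)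
      (Units.map_injective Subtype.val_injective) ω₀, h1, orderOf_pow' _ (by omega), hoγ, ← hF, he,
      Nat.gcd_mul_right_left, Nat.mul_div_cancel_left _ (by omega)]
  have hg0 : (γ : F) ≠ 0 := γ.ne_zero
  have hφγ : φ γ = (γ : F) ^ q := hφ _
  have hφφ : φ (φ γ) = γ := by rw [hφ, hφ, hqq]
  -- the images of the generators
  have v : ∀ i (s : Fin 6), s ∈ Nodes.RGDTwE6.J i → ψ i s (ω i) =
      ![(γ : F), γ * φ γ, γ, γ * φ γ, φ γ, φ γ] s := by
    have e : ((ω₀ : RingHom.eqLocusField φ (RingHom.id F)) : F) = γ * φ γ := by rw [hω₀, hφγ, pow_succ']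
    intro i s hs
    match i with
    | 0 =>
      obtain rfl : s = 1 := List.mem_singleton.1 hs
      exact e
    | 1 =>
      obtain rfl : s = 3 := List.mem_singleton.1 hs
      exact e
    | 2 =>
      have hs' : s = 2 ∨ s = 4 := by simpa [Nodes.RGDTwE6.J] using hs
      rcases hs' with rfl | rfl <;> rfl
    | 3 =>
      have hs' : s = 0 ∨ s = 5 := by simpa [Nodes.RGDTwE6.J] using hs
      rcases hs' with rfl | rfl <;> rfl
  have hz1 : (γ : F) ^ ((q : ℤ) + 1) = γ * φ γ := by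
    rw [zpow_add_one₀ hg0, zpow_natCast, hφγ, mul_comm]
  have hz2 : (φ γ) ^ ((q : ℤ) + 1) = γ * φ γ := by
    rw [← map_zpow₀, hz1, map_mul, hφφ, mul_comm]
  have hg1 : φ γ ≠ 0 := (map_ne_zero φ).2 hg0
  refine ⟨fun i => (N i).res, ω, S, hω, fun i => ?_, fun i j => ?_⟩
  · match i with
    | 0 => exact ho₀
    | 1 => exact ho₀
    | 2 => exact hoγ
    | 3 => exact hoγ
  · have h1 := conj_of_act S (i := i) (S.d j (ω j)) (a := (ω i ^ twc q i j)⁻¹) ((N i).act (N j) (ω j) _ (by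
      intro s hs
      rw [Units.val_inv_eq_inv_val, map_inv₀, Units.val_zpow_eq_zpow_val, map_zpow₀, v i s hs,
        List.map_congr_left fun b hb => by rw [v j b hb, tw_cart]]
      fin_cases i <;> fin_cases j <;> simp [Nodes.RGDTwE6.J] at hs <;> rcases hs with rfl | rfl <;>
        simp [Nodes.RGDTwE6.J, twc, hz1, hz2, _root_.zpow_neg, mul_comm]))
    rwa [inv_inv, map_zpow, map_zpow] at h1

/-- **The datum of an odd cover of `²E₆(q)`.** -/
theorem tw_lift {K : Fam} {Y : Type} [Group Y] [Finite Y] [Fintype F] (c : Cov K Y) (hq : IsPrimePow q)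
    (hF : Fintype.card F = q ^ 2) (e : Y ⧸ Subgroup.center Y ≃* twistedE6 F q) (hφ : ∀ x, φ x = x ^ q)
    (hqq : ∀ t : F, (t ^ q) ^ q = t) (p : ℕ) [CharP F p] (hp2 : p ≠ 2) [Finite CoxeterMatrix.F₄.Group] :
    letI := k4Field φ
    ∃ (Φ : ∀ i, SpecialLinearGroup (Fin 2) (k4 φ i) →* Y) (ω : ∀ i, (k4 φ i)ˣ),
      InS p CoxeterMatrix.F₄.toCoxeterSystem isCartan ((T F q).comap (prj e)) (fun z => lft p (prj e) (X φ q z)) Φ ∧
      (∀ i c, c ∈ Subgroup.zpowers (ω i)) ∧ (∀ i, orderOf (ω i) = ![q - 1, q - 1, q ^ 2 - 1, q ^ 2 - 1] i) ∧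
      ∀ i j, Φ i ww * Φ j (dd (ω j)) * (Φ i ww)⁻¹ = Φ j (dd (ω j)) * Φ i (dd (ω i)) ^ twc q i j := by
  let _ := k4Field φ
  have hpp : p.Prime := CharP.char_is_prime F p
  have h2 : (2 : F) ≠ 0 := fun h =>
    hp2 ((Nat.prime_dvd_prime_iff_eq hpp Nat.prime_two).1 ((CharP.cast_eq_zero_iff F p 2).1 (by exact_mod_cast h)))
  obtain ⟨Φ', ω, S, h1, h3, h4⟩ := tw_nodes hq hF hφ hqq p h2
  obtain ⟨E, h5⟩ := tw_ce c hq hF e p
  obtain ⟨Φ, h6, h7, S'⟩ := S.lift hpp hp2 E (perfect c) h5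
  refine ⟨Φ, ω, S', h1, h3, fun i j => ?_⟩
  rw [← map_zpow]
  refine S'.conj_lift h6 h7 (S'.d j _) ?_
  rw [h6, h4, map_zpow]

end tw

end Cfsg.Agent.ODD.Cv
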