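import Cfsg.Agent.ODD.Cov.Fam
import Cfsg.Agent.ODD.Alt.Rat
import Cfsg.Agent.S2086
import Cfsg.Agent.S2087
import Cfsg.Agent.S2088
import Cfsg.Agent.S2089
import Cfsg.Agent.S2091
import Cfsg.Agent.S0252
import Cfsg.Agent.S0254
import Cfsg.Agent.S0256
import Cfsg.Agent.S0279
import Cfsg.Agent.S0822
import Cfsg.Agent.S0892
import Cfsg.Agent.S0248
import Cfsg.Agent.H259.NatMod
import Cfsg.Agent.H93.PslCharpoly
import Cfsg.Agent.LieClassical.HermPerfect

/-!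
# ODD, covers: the odd covers of `PSL_n(q)` and `PSU_n(q)` are quotients of `SL_n(q)`, `SU_n(q)` (helper4)

* `sl_cover`, `su_cover`: every characteristic, the exceptions are `L₂(9)` and `U₄(3)`;
* `rowA_psl`, `rowB_psl`, `rowA_psu`, `rowB_psu`: the rows from the statements for `SL` and `SU`.
-/

set_option autoImplicit false
set_option maxHeartbeats 400000

namespace Cfsg.Agent.ODD.Cv

open Cfsg Cfsg.Agent.ODD Subgroup Matrix

theorem mb_alt {n : ℕ} (hn : 4 ≤ n) (h6 : n ≠ 6) (h7 : n ≠ 7) : MB (alternatingGroup (Fin n)) 2 := by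
  intro P _ _ hP π h1 h2
  have h3 := S0892.result n hn h6 h7 π.ker h2 (by rw [hP]; exact le_top)
    (QuotientGroup.quotientKerEquivOfSurjective π h1)
  have h4 : 0 < Nat.card π.ker := Nat.card_pos
  generalize Nat.card π.ker = k at h3 h4
  interval_cases k
  · exact one_dvd _
  · exact dvd_rfl

section sl

variable {F : Type} [Field F] [Fintype F] {n : ℕ}

/-- the projection `SL → PSL` -/
abbrev prL (n : ℕ) (F : Type) [Field F] : SpecialLinearGroup (Fin n) F →* ProjectiveSpecialLinearGroup (Fin n) F :=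
  QuotientGroup.mk' (center (SpecialLinearGroup (Fin n) F))

theorem sl_perf (hn : 2 ≤ n) (h2 : n = 2 → 4 ≤ Fintype.card F) : commutator (SpecialLinearGroup (Fin n) F) = ⊤ := by
  by_cases h : n = 2
  · subst h
    exact H259.NatMod.commutator_eq_top (h2 rfl)
  · exact S0248.result n (by omega)

theorem card_ker_prL (hn : 2 ≤ n) : Nat.card (prL n F).ker = Nat.gcd n (Fintype.card F - 1) := by
  rw [QuotientGroup.ker_mk', H93.PslCharpoly.card_center n (by omega), Nat.card_eq_fintype_card]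

theorem mb_psl (hn : 2 ≤ n) (h2 : n = 2 → 4 ≤ Fintype.card F) (h9 : ¬ (n = 2 ∧ Fintype.card F = 9)) :
    MB (ProjectiveSpecialLinearGroup (Fin n) F) (Nat.gcd n (Fintype.card F - 1) * 2 ^ 4) := by
  by_cases a1 : n = 2 ∧ Fintype.card F = 4
  · obtain ⟨rfl, a1⟩ := a1
    obtain ⟨e⟩ := S0252.result a1
    exact ((mb_alt (by norm_num) (by norm_num) (by norm_num)).congr e).mono (Dvd.dvd.mul_left (by norm_num) _)
  by_cases a2 : n = 3 ∧ Fintype.card F = 2
  · obtain ⟨rfl, a2⟩ := a2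
    exact (MB.of_cyc (S2087.result a2)).mono (Dvd.dvd.mul_left (by norm_num) _)
  by_cases a3 : n = 3 ∧ Fintype.card F = 4
  · obtain ⟨rfl, a3⟩ := a3
    have h3 := MB.of_mult (S2088.result a3)
    rw [card_zmod3] at h3
    rw [a3]
    exact h3.mono (by norm_num)
  by_cases a4 : n = 4 ∧ Fintype.card F = 2
  · obtain ⟨rfl, a4⟩ := a4
    obtain ⟨e⟩ := S0256.result a4
    exact ((mb_alt (by norm_num) (by norm_num) (by norm_num)).congr e).mono (Dvd.dvd.mul_left (by norm_num) _)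
  refine (MB.of_cyc (S2086.result rfl n hn h2 ?_)).mono (dvd_mul_right _ _)
  simp only [Set.mem_insert_iff, Set.mem_singleton_iff, Prod.mk.injEq]
  tauto

theorem mb_psl_odd (hF : Odd (Fintype.card F)) (hn : 2 ≤ n) (h2 : n = 2 → 4 ≤ Fintype.card F)
    (h9 : ¬ (n = 2 ∧ Fintype.card F = 9)) :
    MB (ProjectiveSpecialLinearGroup (Fin n) F) (Nat.card (prL n F).ker) := by
  rw [card_ker_prL hn]
  refine MB.of_cyc (S2086.result rfl n hn h2 ?_)
  obtain ⟨k, hk⟩ := hF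
  simp only [Set.mem_insert_iff, Set.mem_singleton_iff, Prod.mk.injEq]
  omega

theorem full_sl (hn : 2 ≤ n) (h2 : n = 2 → 4 ≤ Fintype.card F) (h9 : ¬ (n = 2 ∧ Fintype.card F = 9)) :
    Full (prL n F) :=
  ⟨sl_perf hn h2, QuotientGroup.mk'_surjective _, by rw [QuotientGroup.ker_mk'], 4, by
    rw [card_ker_prL hn]; exact mb_psl hn h2 h9⟩

/-- **The odd covers of `PSL_n(q)` are quotients of `SL_n(q)`**, except for `L₂(9)`. -/
theorem sl_cover {K : Fam} {X : Type} [Group X] [Finite X] (c : Cov K X) (hn : 2 ≤ n)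
    (h2 : n = 2 → 4 ≤ Fintype.card F) (h9 : ¬ (n = 2 ∧ Fintype.card F = 9))
    (e : X ⧸ center X ≃* ProjectiveSpecialLinearGroup (Fin n) F) :
    ∃ φ : SpecialLinearGroup (Fin n) F →* X, Function.Surjective φ ∧ φ.ker ≤ center (SpecialLinearGroup (Fin n) F) ∧
      ∀ x, e (QuotientGroup.mk (φ x)) = QuotientGroup.mk x := by
  obtain ⟨φ, h1, h3, h4⟩ := (full_sl hn h2 h9).cov c e
  exact ⟨φ, h1, by rwa [QuotientGroup.ker_mk'] at h3, h4⟩

/-- the automorphisms of a central quotient of `SL_n(q)`, `q` odd, lift -/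
theorem sl_lift (hF : Odd (Fintype.card F)) (hn : 2 ≤ n) (h2 : n = 2 → 4 ≤ Fintype.card F)
    (h9 : ¬ (n = 2 ∧ Fintype.card F = 9)) {X : Type} [Group X] (φ : SpecialLinearGroup (Fin n) F →* X)
    (hφ : Function.Surjective φ) (hk : φ.ker ≤ center (SpecialLinearGroup (Fin n) F)) (a : MulAut X) :
    ∃ b : MulAut (SpecialLinearGroup (Fin n) F), ∀ g, φ (b g) = a (φ g) :=
  lift_aut (σ := prL n F) (sl_perf hn h2) (QuotientGroup.mk'_surjective _) (by rw [QuotientGroup.ker_mk'])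
    (mb_psl_odd hF hn h2 h9) φ hφ hk a

/-- the covers of `L₂(9) = A₆` -/
theorem oddRat_l29 {K : Fam} {X : Type} [Group X] [Finite X] (c : Cov K X) (hF : Fintype.card F = 9)
    (e : X ⧸ center X ≃* ProjectiveSpecialLinearGroup (Fin 2) F) : OddRat X := by
  obtain ⟨f⟩ := S0254.result hF
  exact Alt.rowAlt X (cov_of c ⟨6, by norm_num, ⟨e.trans f⟩⟩)

end sl

section su

variable {F : Type} [Field F] [Fintype F] {n q : ℕ}

/-- the projection `SU → PSU` -/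
abbrev prU (n : ℕ) (F : Type) [Field F] (q : ℕ) : SU n F q →* PSU n F q := QuotientGroup.mk' (center (SU n F q))

theorem card_ker_prU (hF : Fintype.card F = q ^ 2) (hn : 3 ≤ n) : Nat.card (prU n F q).ker = Nat.gcd n (q + 1) := by
  rw [QuotientGroup.ker_mk', S0279.result hF n hn]

theorem mb_psu (hF : Fintype.card F = q ^ 2) (hn : 3 ≤ n) (h2 : ¬ (n = 3 ∧ q = 2)) (h3 : ¬ (n = 4 ∧ q = 3)) :
    MB (PSU n F q) (Nat.gcd n (q + 1) * 2 ^ 2) := by
  by_cases a1 : n = 4 ∧ q = 2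
  · obtain ⟨rfl, rfl⟩ := a1
    have : Fact (Nat.Prime 3) := ⟨Nat.prime_three⟩
    obtain ⟨e⟩ := S0822.result (K := ZMod 3) hF (ZMod.card 3)
    exact ((mb_psp le_rfl fun _ => (ZMod.card 3).ge).congr e).mono (Dvd.dvd.mul_left (by norm_num) _)
  by_cases a2 : n = 6 ∧ q = 2
  · obtain ⟨rfl, rfl⟩ := a2
    have h4 := MB.of_mult (S2091.result hF)
    rw [card_zmod3] at h4
    exact h4.mono (by norm_num)
  refine (MB.of_cyc (S2089.result n q hF hn h2 ?_)).mono (dvd_mul_right _ _)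
  simp only [Set.mem_insert_iff, Set.mem_singleton_iff, Prod.mk.injEq]
  tauto

theorem odd_q (hO : Odd (Fintype.card F)) (hF : Fintype.card F = q ^ 2) : Odd q := by
  rw [hF] at hO
  exact (Nat.odd_pow_iff two_ne_zero).1 hO

theorem mb_psu_odd (hq : Odd q) (hF : Fintype.card F = q ^ 2) (hn : 3 ≤ n) (h3 : ¬ (n = 4 ∧ q = 3)) :
    MB (PSU n F q) (Nat.card (prU n F q).ker) := by
  rw [card_ker_prU hF hn]
  obtain ⟨k, hk⟩ := hq
  refine MB.of_cyc (S2089.result n q hF hn (by omega) ?_)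
  simp only [Set.mem_insert_iff, Set.mem_singleton_iff, Prod.mk.injEq]
  omega

theorem full_su (hF : Fintype.card F = q ^ 2) (hn : 3 ≤ n) (h2 : ¬ (n = 3 ∧ q = 2)) (h3 : ¬ (n = 4 ∧ q = 3)) :
    Full (prU n F q) :=
  ⟨LieClassical.HermPerfect.commutator_SU_eq_top hF hn h2, QuotientGroup.mk'_surjective _,
    by rw [QuotientGroup.ker_mk'], 2, by rw [card_ker_prU hF hn]; exact mb_psu hF hn h2 h3⟩

/-- **The odd covers of `PSU_n(q)` are quotients of `SU_n(q)`**, except for `U₄(3)`. -/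
theorem su_cover {K : Fam} {X : Type} [Group X] [Finite X] (c : Cov K X) (hF : Fintype.card F = q ^ 2) (hn : 3 ≤ n)
    (h2 : ¬ (n = 3 ∧ q = 2)) (h3 : ¬ (n = 4 ∧ q = 3)) (e : X ⧸ center X ≃* PSU n F q) :
    ∃ φ : SU n F q →* X, Function.Surjective φ ∧ φ.ker ≤ center (SU n F q) ∧
      ∀ x, e (QuotientGroup.mk (φ x)) = QuotientGroup.mk x := by
  obtain ⟨φ, h1, h4, h5⟩ := (full_su hF hn h2 h3).cov c e
  exact ⟨φ, h1, by rwa [QuotientGroup.ker_mk'] at h4, h5⟩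

/-- the automorphisms of a central quotient of `SU_n(q)`, `q` odd, lift -/
theorem su_lift (hq : Odd q) (hF : Fintype.card F = q ^ 2) (hn : 3 ≤ n) (h3 : ¬ (n = 4 ∧ q = 3))
    {X : Type} [Group X] (φ : SU n F q →* X) (hφ : Function.Surjective φ) (hk : φ.ker ≤ center (SU n F q))
    (a : MulAut X) : ∃ b : MulAut (SU n F q), ∀ g, φ (b g) = a (φ g) :=
  lift_aut (σ := prU n F q)
    (LieClassical.HermPerfect.commutator_SU_eq_top hF hn (by obtain ⟨k, hk⟩ := hq; omega))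
    (QuotientGroup.mk'_surjective _) (by rw [QuotientGroup.ker_mk']) (mb_psu_odd hq hF hn h3) φ hφ hk a

end su

/-! ### the rows -/

/-- `U₄(3)` -/
def U43 (S : Type) [Group S] : Prop :=
  ∃ (F : Type) (_ : Field F) (_ : Fintype F), Fintype.card F = 9 ∧ Nonempty (S ≃* PSU 4 F 3)

/-- `BoxA.psl` from `QA` for the groups `SL_n(q)` -/
theorem rowA_psl (h : ∀ (F : Type) [Field F] [Fintype F] (n : ℕ), Odd (Fintype.card F) → 2 ≤ n →
    (n = 2 → 4 ≤ Fintype.card F) → QA (SpecialLinearGroup (Fin n) F)) : RowA PslO := by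
  intro X _ _ c
  obtain ⟨F, _, _, n, h0, h1, h2, ⟨e⟩⟩ := c.fam
  by_cases h9 : n = 2 ∧ Fintype.card F = 9
  · obtain ⟨rfl, h9⟩ := h9
    exact (oddRat_l29 c h9 e).qa
  · obtain ⟨φ, h3, -, -⟩ := sl_cover c h1 h2 h9 e
    exact qa_of_surj φ h3 (h F n h0 h1 h2)

/-- `BoxB.psl` from `QB` for the groups `SL_n(q)` -/
theorem rowB_psl (h : ∀ (F : Type) [Field F] [Fintype F] (n : ℕ), Odd (Fintype.card F) → 2 ≤ n →
    (n = 2 → 4 ≤ Fintype.card F) → QB (SpecialLinearGroup (Fin n) F)) : RowB PslO := by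
  intro X _ _ c
  obtain ⟨F, _, _, n, h0, h1, h2, ⟨e⟩⟩ := c.fam
  by_cases h9 : n = 2 ∧ Fintype.card F = 9
  · obtain ⟨rfl, h9⟩ := h9
    exact (oddRat_l29 c h9 e).qb
  · obtain ⟨φ, h3, h4, -⟩ := sl_cover c h1 h2 h9 e
    exact qb_of_cover φ h3 h4 (sl_perf h1 h2) (sl_lift h0 h1 h2 h9 φ h3 h4) (h F n h0 h1 h2)

/-- `BoxA.psu` from `QA` for the groups `SU_n(q)` and the covers of `U₄(3)` -/
theorem rowA_psu (h43 : RowO U43) (h : ∀ (F : Type) [Field F] [Fintype F] (n q : ℕ), Odd q →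
    Fintype.card F = q ^ 2 → 3 ≤ n → QA (SU n F q)) : RowA PsuO := by
  intro X _ _ c
  obtain ⟨F, _, _, n, q, h0, h1, h2, ⟨e⟩⟩ := c.fam
  have hq := odd_q h0 h1
  by_cases h9 : n = 4 ∧ q = 3
  · obtain ⟨rfl, rfl⟩ := h9
    exact (h43 X (cov_of c ⟨F, _, _, h1, ⟨e⟩⟩)).qa
  · obtain ⟨φ, h3, -, -⟩ := su_cover c h1 h2 (by obtain ⟨k, hk⟩ := hq; omega) h9 e
    exact qa_of_surj φ h3 (h F n q hq h1 h2)

/-- `BoxB.psu` from `QB` for the groups `SU_n(q)` and the covers of `U₄(3)` -/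
theorem rowB_psu (h43 : RowO U43) (h : ∀ (F : Type) [Field F] [Fintype F] (n q : ℕ), Odd q →
    Fintype.card F = q ^ 2 → 3 ≤ n → QB (SU n F q)) : RowB PsuO := by
  intro X _ _ c
  obtain ⟨F, _, _, n, q, h0, h1, h2, ⟨e⟩⟩ := c.fam
  have hq := odd_q h0 h1
  by_cases h9 : n = 4 ∧ q = 3
  · obtain ⟨rfl, rfl⟩ := h9
    exact (h43 X (cov_of c ⟨F, _, _, h1, ⟨e⟩⟩)).qb
  · have h32 : ¬ (n = 3 ∧ q = 2) := by obtain ⟨k, hk⟩ := hq; omega
    obtain ⟨φ, h3, h4, -⟩ := su_cover c h1 h2 h32 h9 e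
    exact qb_of_cover φ h3 h4 (LieClassical.HermPerfect.commutator_SU_eq_top h1 h2 h32)
      (su_lift hq h1 h2 h9 φ h3 h4) (h F n q hq h1 h2)

end Cfsg.Agent.ODD.Cv
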