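import Cfsg.Agent.ODD.PS.Cor
import Cfsg.Agent.H310.OQ.Fold
import Cfsg.Agent.H684.OQ.Alf
import Cfsg.Agent.H925.NatTor
import Cfsg.Agent.Nodes.RGDLift
import Cfsg.Agent.H487.SchurPerfect
import Cfsg.Agent.S2117
import Cfsg.Agent.S2540
import Cfsg.Agent.H259.NatMod
import Cfsg.Agent.H93.PslCharpoly
import Cfsg.Agent.LieClassical.SLGen

/-!
# ODD, covers: the lift of a root group datum with nodes of type `SL₂` (helper4)

* `InS p cs h T X Φ`: the input `In` (`H684.OQ`), the root groups generate, and the node `i` is given by the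
  homomorphism `Φ i : SL₂(k i) → Y` (`n i = Φ i ww`);
* `InS.range_eq`, `InS.tx_eq`, `InS.mem_tor`, `InS.tor_le`, `InS.cor`: consequences;
* `CE p f`: a central extension with kernel of odd order prime to `p`;
* `InS.lift`: the datum lifts to a perfect central extension; `rp_map`, `InS.conj_lift`, `InS.cor_lift`, `CE.eq_of_two`.
-/

set_option autoImplicit false
set_option linter.unusedSectionVars false
set_option maxHeartbeats 400000

namespace Cfsg.Agent.ODD.Cv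

open Cfsg Matrix
open CoxeterSystem Cfsg.Agent.ChevalleyStructure.CoxeterGeom Cfsg.Agent.Tits.Roots Cfsg.Agent.Nodes.Reps
  Cfsg.Agent.Nodes.BNOf Cfsg.Agent.Nodes.Bruhat Cfsg.Agent.H684.OQ Cfsg.Agent.H310.OQ Cfsg.Agent.Nodes.RGDLift
  Cfsg.Agent.Nodes.RGDLib

section sl2

variable {k : Type} [Field k]

theorem ww_uu_ww (t : k) : (ww : SpecialLinearGroup (Fin 2) k) * uu t * ww⁻¹ = ll (-t) := by
  rw [mul_inv_eq_iff_eq_mul]
  apply Subtype.ext
  simp [uu_val, ww_val, ll_val]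

theorem eq_dd_uu (g : SpecialLinearGroup (Fin 2) k) (hc : g.1 1 0 = 0) : ∃ (c : kˣ) (t : k), g = dd c * uu t := by
  have hd : g.1 0 0 * g.1 1 1 - g.1 0 1 * g.1 1 0 = 1 := by
    rw [← Matrix.det_fin_two]; exact g.2
  rw [hc, mul_zero, sub_zero] at hd
  have h0 : g.1 0 0 ≠ 0 := left_ne_zero_of_mul_eq_one hd
  refine ⟨Units.mk0 _ h0, (g.1 0 0)⁻¹ * g.1 0 1, Subtype.ext ?_⟩
  have h1 : g.1 = !![g.1 0 0, g.1 0 1; g.1 1 0, g.1 1 1] := Matrix.eta_fin_two _
  rw [val_mul, dd_val, uu_val]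
  conv_lhs => rw [h1]
  ext i j
  fin_cases i <;> fin_cases j
  · simp
  · simp; field_simp
  · simp [hc]
  · simp; exact eq_inv_of_mul_eq_one_right hd

theorem uu_pow (t : k) (m : ℕ) : uu t ^ m = uu (m * t) := by
  induction m with
  | zero => rw [pow_zero, Nat.cast_zero, zero_mul, uu_zero]
  | succ m ih => rw [pow_succ, ih, uu_mul, Nat.cast_succ, add_mul, one_mul]

end sl2

variable {I W Y : Type} [Fintype I] [DecidableEq I] [Group W] [Finite W] [Group Y] [Finite Y]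
  {M : CoxeterMatrix I} {cs : CoxeterSystem M W} {A : I → I → ℤ} {h : IsCartan M A} {p : ℕ}
  {k : I → Type} [∀ i, Field (k i)]

/-- **A root group datum with nodes of type `SL₂`.** -/
structure InS (p : ℕ) (cs : CoxeterSystem M W) (h : IsCartan M A) (T : Subgroup Y) (X : (I → ℤ) → Subgroup Y)
    (Φ : ∀ i, SpecialLinearGroup (Fin 2) (k i) →* Y) : Prop where
  inp : In p cs h T (fun i => Φ i ww) X
  gen : G1 cs h X = ⊤
  d : ∀ i c, Φ i (dd c) ∈ T
  u : ∀ i g, g ∈ X (sr i) ↔ ∃ t, g = Φ i (uu t)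
  inj : ∀ i t, Φ i (uu t) = 1 → t = 0

namespace InS

variable {T : Subgroup Y} {X : (I → ℤ) → Subgroup Y} {Φ : ∀ i, SpecialLinearGroup (Fin 2) (k i) →* Y}
  (S : InS p cs h T X Φ)

include S

theorem uu_mem (i : I) (t : k i) : Φ i (uu t) ∈ X (sr i) := (S.u i _).2 ⟨t, rfl⟩

theorem finite (i : I) : Finite (k i) := by
  refine Finite.of_injective (fun t : k i => Φ i (uu t)) fun s t hst => ?_
  have h1 : Φ i (uu s) = Φ i (uu t) := hst
  have h2 : Φ i (uu (s + -t)) = 1 := by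
    rw [← uu_mul, map_mul, h1, ← map_mul, uu_mul, add_neg_cancel, uu_zero, map_one]
  have h3 := S.inj i _ h2
  rwa [← sub_eq_add_neg, sub_eq_zero] at h3

theorem cast_p (i : I) : ((p : ℕ) : k i) = 0 := by
  obtain ⟨j, hj⟩ := S.inp.rgd.pgrp i ⟨_, S.uu_mem i 1⟩
  have h1 : Φ i (uu 1) ^ p ^ j = 1 := congrArg Subtype.val hj
  rw [← map_pow, uu_pow, mul_one] at h1
  have h2 := S.inj i _ h1
  rw [Nat.cast_pow] at h2
  exact eq_zero_of_pow_eq_zero h2

theorem mem_neg (i : I) (g : Y) : g ∈ X (-sr i) ↔ ∃ t, g = Φ i (ll t) := by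
  have h1 := S.inp.rgd.conj i _ (isRoot_sr cs h i)
  rw [rep_simple_sr] at h1
  rw [← h1, mem_cj, S.u]
  constructor
  · rintro ⟨t, ht⟩
    refine ⟨-t, ?_⟩
    rw [← ww_uu_ww, map_mul, map_mul, map_inv, ← ht]
    group
  · rintro ⟨t, rfl⟩
    refine ⟨-t, ?_⟩
    have h2 := ww_uu_ww (-t)
    rw [neg_neg] at h2
    rw [← h2, map_mul, map_mul, map_inv]
    group

theorem range_eq (i : I) : (Φ i).range = X (sr i) ⊔ X (-sr i) := by
  apply le_antisymm
  · have h1 : (X (sr i) ⊔ X (-sr i)).comap (Φ i) = ⊤ :=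
      eq_top_of_uu_ll _ (fun t => Subgroup.mem_sup_left (S.uu_mem i t))
        fun t => Subgroup.mem_sup_right ((S.mem_neg i _).2 ⟨t, rfl⟩)
    rintro _ ⟨g, rfl⟩
    have h2 : g ∈ (X (sr i) ⊔ X (-sr i)).comap (Φ i) := by rw [h1]; exact Subgroup.mem_top g
    exact h2
  · refine sup_le (fun g hg => ?_) fun g hg => ?_
    · obtain ⟨t, rfl⟩ := (S.u i g).1 hg
      exact ⟨_, rfl⟩
    · obtain ⟨t, rfl⟩ := (S.mem_neg i g).1 hg
      exact ⟨_, rfl⟩

/-- the torus normalises the rank one groups -/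
theorem conj_range {t : Y} (ht : t ∈ T) (i : I) {g : Y} (hg : g ∈ (Φ i).range) : t * g * t⁻¹ ∈ (Φ i).range := by
  have h1 : cj t (X (sr i) ⊔ X (-sr i)) = X (sr i) ⊔ X (-sr i) := by
    have h2 := S.inp.rgd.tor _ (isRoot_sr cs h i) t ht
    have h3 := S.inp.rgd.tor _ (isRoot_sr cs h i).neg t ht
    unfold cj at h2 h3 ⊢
    rw [Subgroup.map_sup, h2, h3]
  rw [S.range_eq] at hg ⊢
  rw [← h1]
  exact conj_mem_cj.2 hg

theorem tx_eq (i : I) (c : (k i)ˣ) : tx S.inp.rgd i (Φ i (uu ((c⁻¹ : (k i)ˣ) : k i))) = Φ i (dd c) := by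
  refine (tx_unique S.inp.rgd (S.uu_mem i _) (fun h1 => (c⁻¹).ne_zero (S.inj i _ h1)) (S.d i c)
    (S.uu_mem i (-(c : k i))) (S.uu_mem i (-(c : k i))) ?_).1
  show Φ i ww * _ * (Φ i ww)⁻¹ = _ * _ * Φ i ww * _
  rw [← map_mul, ← map_inv, ← map_mul, ww_conj, map_mul, map_mul, map_mul]

theorem tx_mem' (i : I) {x : Y} (hx : x ∈ X (sr i)) (hx1 : x ≠ 1) : ∃ c, tx S.inp.rgd i x = Φ i (dd c) := by
  obtain ⟨t, rfl⟩ := (S.u i x).1 hx
  have ht : t ≠ 0 := by
    rintro rfl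
    exact hx1 (by rw [uu_zero, map_one])
  refine ⟨(Units.mk0 t ht)⁻¹, ?_⟩
  rw [← S.tx_eq, inv_inv, Units.val_mk0]

/-- the rank one torus -/
theorem mem_tor (i : I) {g : Y} (hg : g ∈ (Φ i).range) (hT : g ∈ T) : ∃ c, g = Φ i (dd c) := by
  obtain ⟨s, rfl⟩ := hg
  have hX := RGD.X_le_B (T := T) (X := X) (isRoot_sr cs h i) (sr_nonneg i)
  by_cases hc : s.1 1 0 = 0
  · obtain ⟨c, t, rfl⟩ := eq_dd_uu s hc
    refine ⟨c, ?_⟩
    rw [map_mul] at hT ⊢
    have h1 : Φ i (uu t) ∈ T := (T.mul_mem_cancel_left (S.d i c)).1 hT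
    obtain ⟨j, hj⟩ := S.inp.rgd.pgrp i ⟨_, S.uu_mem i t⟩
    have h2 : Φ i (uu t) ^ p ^ j = 1 := congrArg Subtype.val hj
    have h3 : Φ i (uu t) ^ Nat.card T = 1 := by
      have h4 : (⟨_, h1⟩ : T) ^ Nat.card T = 1 := pow_card_eq_one'
      exact congrArg Subtype.val h4
    have h5 : Φ i (uu t) = 1 := by
      have h6 := Nat.dvd_gcd (orderOf_dvd_of_pow_eq_one h3) (orderOf_dvd_of_pow_eq_one h2)
      rw [Nat.Coprime.gcd_eq_one (Nat.Coprime.pow_right j S.inp.rgd.tcop)] at h6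
      exact orderOf_eq_one_iff.1 (Nat.dvd_one.1 h6)
    rw [h5, mul_one]
  · exfalso
    apply n_not_mem_B S.inp.rgd i
    have hB : Φ i s ∈ RGD.B cs h T X := RGD.T_le_B hT
    rw [uu_ll_uu s hc, map_mul, map_mul] at hB
    have h1 : Φ i (ll (s.1 1 0)) ∈ RGD.B cs h T X :=
      (Subgroup.mul_mem_cancel_left _ (hX (S.uu_mem i _))).1
        ((Subgroup.mul_mem_cancel_right _ (hX (S.uu_mem i _))).1 hB)
    have h2 := ww_uu_ww (-(s.1 1 0))
    have h3 := ww_conj (Units.mk0 (-(s.1 1 0)) (neg_ne_zero.2 hc))⁻¹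
    rw [inv_inv, Units.val_mk0, h2, neg_neg] at h3
    rw [h3, map_mul, map_mul, map_mul] at h1
    exact (Subgroup.mul_mem_cancel_left _ (mul_mem (hX (S.uu_mem i _)) (RGD.T_le_B (S.d i _)))).1
      ((Subgroup.mul_mem_cancel_right _ (hX (S.uu_mem i _))).1 h1)

/-- the torus is generated by the rank one tori -/
theorem tor_le {H : Subgroup Y} (hH : ∀ i c, Φ i (dd c) ∈ H) : T ≤ H := by
  refine (H925.Nat.T_le_iSup S.inp.rgd S.gen).trans (iSup_le fun i g hg => ?_)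
  obtain ⟨c, rfl⟩ := S.mem_tor i (by rw [S.range_eq]; exact hg.1) hg.2
  exact hH i c

theorem tor_gen {ω : ∀ i, (k i)ˣ} (hω : ∀ i c, c ∈ Subgroup.zpowers (ω i)) :
    T ≤ Subgroup.closure (Set.range fun i => Φ i (dd (ω i))) := by
  refine S.tor_le fun i c => ?_
  obtain ⟨m, rfl⟩ := hω i c
  rw [map_zpow, map_zpow]
  exact zpow_mem (Subgroup.subset_closure (Set.mem_range_self i)) m

/-- coroot data -/
theorem cor {ω : ∀ i, (k i)ˣ} (hω : ∀ i c, c ∈ Subgroup.zpowers (ω i)) {A' : I → I → ℤ} (h' : IsCartan M A')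
    {m : ℕ} (hc : ∀ i j, ∃ c : ℤ, Φ i ww * Φ j (dd (ω j)) * (Φ i ww)⁻¹ = Φ j (dd (ω j)) * Φ i (dd (ω i)) ^ c ∧
      (m : ℤ) ∣ c + A' i j) : PS.Cor S.inp.rgd h' m fun i => Φ i (dd (ω i)) where
  comm := S.inp.comm
  mem i := S.d i _
  conj := hc
  node i mu _ h2 := by
    refine PS.node_of_zpowers S.inp.rgd (S.d i _) (fun x hx hx1 => ?_) h2
    obtain ⟨c, hc'⟩ := S.tx_mem' i hx hx1
    obtain ⟨j, rfl⟩ := hω i c
    rw [hc', map_zpow, map_zpow]
    exact ⟨j, rfl⟩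

end InS

/-! ### the lift -/

variable {Y' : Type} [Group Y'] [Finite Y']

/-- a central extension with a kernel of odd order prime to `p` -/
structure CE (p : ℕ) (f : Y →* Y') : Prop where
  surj : Function.Surjective f
  cen : f.ker ≤ Subgroup.center Y
  cop : (Nat.card f.ker).Coprime p
  odd : Odd (Nat.card f.ker)

variable {f : Y →* Y'}

theorem CE.cop2 (E : CE p f) : (Nat.card f.ker).Coprime 2 := Nat.coprime_two_right.2 E.odd

/-- `2`-elements lift to `2`-elements -/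
theorem CE.exists_two (E : CE p f) {y : Y'} {j : ℕ} (hy : y ^ 2 ^ j = 1) : ∃ x, f x = y ∧ x ^ 2 ^ j = 1 := by
  have : Fact (Nat.Prime 2) := ⟨Nat.prime_two⟩
  obtain ⟨x, rfl⟩ := E.surj y
  exact exists_lift E.cop2 hy

/-- `2`-elements with the same image are equal -/
theorem CE.eq_of_two (E : CE p f) {x y : Y} {i j : ℕ} (hx : x ^ 2 ^ i = 1) (hy : y ^ 2 ^ j = 1) (hxy : f x = f y) :
    x = y := by
  have : Fact (Nat.Prime 2) := ⟨Nat.prime_two⟩
  have h1 : f (x⁻¹ * y) = 1 := by rw [map_mul, map_inv, hxy, inv_mul_cancel]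
  have hz : x⁻¹ * y ∈ Subgroup.center Y := E.cen h1
  have hcm : Commute x⁻¹ y := by
    have h6 := Subgroup.mem_center_iff.1 hz y
    have h7 : y * x⁻¹ * y = x⁻¹ * y * y := by rw [← h6, mul_assoc]
    exact (mul_right_cancel h7).symm
  have h2 : (x⁻¹ * y) ^ 2 ^ (i + j) = 1 := by
    rw [hcm.mul_pow, inv_pow, pow_add, pow_mul, hx, one_pow, inv_one, one_mul, mul_comm, pow_mul, hy, one_pow]
  exact inv_mul_eq_one.1 (eq_one_of_ker E.cop2 h1 h2)

/-- representatives map to representatives -/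
theorem rp_map {T' : Subgroup Y'} {n : I → Y} {n' : I → Y'} (hn : ∀ i, f (n i) = n' i) (N : NSys M (T'.comap f) n)
    (N' : NSys M T' n') {w : W} {g : Y} (hg : Rp cs N w g) : Rp cs N' w (f g) := by
  have key : ∀ ω : List I, ∃ a, Rp cs N (cs.wordProd ω) a ∧ Rp cs N' (cs.wordProd ω) (f a) := by
    intro ω
    induction ω with
    | nil => exact ⟨1, by rw [wordProd_nil]; exact rp_one, by rw [wordProd_nil, map_one]; exact rp_one⟩
    | cons i ω ih =>
      obtain ⟨a, h1, h2⟩ := ih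
      refine ⟨n i * a, ?_, ?_⟩
      · rw [wordProd_cons]; exact (rp_simple _ _ i).mul h1
      · rw [wordProd_cons, map_mul, hn]; exact (rp_simple _ N' i).mul h2
  obtain ⟨ω, rfl⟩ := cs.wordProd_surjective w
  obtain ⟨a, h1, h2⟩ := key ω
  have h3 : f (a⁻¹ * g) ∈ T' := h1.unique hg
  have h4 := h2.mul_mem_right h3
  rwa [← map_mul, mul_inv_cancel_left] at h4

section lift

variable {T' : Subgroup Y'} {X' : (I → ℤ) → Subgroup Y'} {Φ' : ∀ i, SpecialLinearGroup (Fin 2) (k i) →* Y'}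
  {Φ : ∀ i, SpecialLinearGroup (Fin 2) (k i) →* Y}

/-- the datum lifts, if the homomorphisms are lifted -/
theorem InS.of_lift [Fact p.Prime] (S : InS p cs h T' X' Φ') (E : CE p f) (hY : commutator Y = ⊤)
    (hΦ : ∀ i g, f (Φ i g) = Φ' i g) (hk : ∀ i g, Φ' i g = 1 → Φ i g = 1) :
    InS p cs h (T'.comap f) (fun x => lft p f (X' x)) Φ := by
  have R' := S.inp.rgd
  have R : RGD cs h p (T'.comap f) (fun i => Φ i ww) (fun x => lft p f (X' x)) :=
    rgd_lift E.cen E.cop E.surj R' fun i => hΦ i ww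
  have hu0 : ∀ i t, Φ i (uu t) ∈ lft p f (X' (sr i)) := by
    intro i t
    refine (mem_lft E.cen (R'.pgrp i)).2 ⟨by rw [hΦ]; exact S.uu_mem i t, 1, ?_⟩
    rw [pow_one, ← map_pow, uu_pow, S.cast_p, zero_mul, uu_zero, map_one]
  have hu : ∀ i g, g ∈ lft p f (X' (sr i)) ↔ ∃ t, g = Φ i (uu t) := by
    intro i g
    constructor
    · intro hg
      obtain ⟨t, ht⟩ := (S.u i _).1 ((mem_lft E.cen (R'.pgrp i)).1 hg).1
      refine ⟨t, ?_⟩
      have h1 := eq_one_of_mem_lft E.cen E.cop (R'.pgrp i) (mul_mem hg (inv_mem (hu0 i t)))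
        (by rw [map_mul, map_inv, hΦ, ht, mul_inv_cancel])
      exact mul_inv_eq_one.1 h1
    · rintro ⟨t, rfl⟩
      exact hu0 i t
  have hinj : ∀ i t, Φ i (uu t) = 1 → t = 0 := fun i t ht => S.inj i t (by rw [← hΦ, ht, map_one])
  have hd : ∀ i c, Φ i (dd c) ∈ T'.comap f := fun i c => by
    rw [Subgroup.mem_comap, hΦ]; exact S.d i c
  have hgen : G1 cs h (fun x => lft p f (X' x)) = ⊤ := by
    have h1 : (G1 cs h fun x => lft p f (X' x)).map f = ⊤ := by
      rw [← S.gen]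
      unfold G1 RGD.Sup
      rw [Subgroup.map_iSup]
      exact iSup_congr fun z => map_lft E.cen E.cop E.surj (R'.pgrp' z.2)
    have h2 : Function.Surjective (f.comp (G1 cs h fun x => lft p f (X' x)).subtype) := by
      intro y
      have h3 : y ∈ (G1 cs h fun x => lft p f (X' x)).map f := by rw [h1]; exact Subgroup.mem_top y
      obtain ⟨x, hx, rfl⟩ := h3
      exact ⟨⟨x, hx⟩, rfl⟩
    have h4 := H487.surjective_of_isStemExtension h2 ⟨E.surj, E.cen, by rw [hY]; exact le_top⟩ rfl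
    rw [eq_top_iff]
    intro y _
    obtain ⟨x, rfl⟩ := h4 y
    exact x.2
  have hrange : ∀ i, lft p f (X' (sr i)) ⊔ lft p f (X' (-sr i)) ≤ (Φ i).range := by
    intro i
    have h1 := R.conj i _ (isRoot_sr cs h i)
    rw [rep_simple_sr] at h1
    refine sup_le (fun g hg => ?_) fun g hg => ?_
    · obtain ⟨t, rfl⟩ := (hu i g).1 hg
      exact ⟨_, rfl⟩
    · have h2 : g ∈ cj (Φ i ww) (lft p f (X' (sr i))) := by rw [h1]; exact hg
      obtain ⟨t, ht⟩ := (hu i _).1 (mem_cj.1 h2)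
      refine ⟨ww * uu t * ww⁻¹, ?_⟩
      rw [map_mul, map_mul, map_inv, ← ht]
      group
  have hcomm : ∀ a ∈ T'.comap f, ∀ b ∈ T'.comap f, a * b = b * a := by
    intro a ha b hb
    have h1 : T'.comap f ≤ Subgroup.centralizer {a} := by
      refine (H925.Nat.T_le_iSup R hgen).trans (iSup_le fun i g hg => ?_)
      rw [Subgroup.mem_centralizer_singleton_iff]
      have h2 : cj a (lft p f (X' (sr i)) ⊔ lft p f (X' (-sr i))) = lft p f (X' (sr i)) ⊔ lft p f (X' (-sr i)) := by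
        have h3 := R.tor _ (isRoot_sr cs h i) a ha
        have h4 := R.tor _ (isRoot_sr cs h i).neg a ha
        unfold cj at h3 h4 ⊢
        rw [Subgroup.map_sup, h3, h4]
      have h5 : a * g * a⁻¹ ∈ lft p f (X' (sr i)) ⊔ lft p f (X' (-sr i)) := by
        rw [← h2]; exact conj_mem_cj.2 hg.1
      obtain ⟨s, hs⟩ := hrange i (mul_mem h5 (inv_mem hg.1))
      have h6 : Φ' i s = 1 := by
        rw [← hΦ, hs, map_mul, map_mul, map_mul, map_inv, map_inv, S.inp.comm _ ha _ hg.2]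
        group
      have h7 := hk i s h6
      rw [hs] at h7
      have h8 : a * g * a⁻¹ = g := mul_inv_eq_one.1 h7
      exact (mul_inv_eq_iff_eq_mul.1 h8).symm
    exact (Subgroup.mem_centralizer_singleton_iff.1 (h1 hb)).symm
  refine ⟨⟨R, ?_, hcomm, ?_, fun i => ?_, ?_⟩, hgen, hd, hu, hinj⟩
  · rw [eq_top_iff, ← hgen]
    exact le_sup_right
  · intro x hx u hu' hc
    refine eq_one_of_mem_lft E.cen E.cop (R'.pgrp' hx) hu' ?_
    refine S.inp.nofix x hx _ ((mem_lft E.cen (R'.pgrp' hx)).1 hu').1 ?_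
    rintro t ht ⟨j, hj⟩
    obtain ⟨s, rfl, hs⟩ := E.exists_two hj
    rw [← map_mul, hc s ht ⟨j, hs⟩, map_mul]
  · have := S.finite i
    exact slNode_of_sl2 (Φ i) rfl (hd i) (hu i) (hinj i)
  · intro w g hg hodd hc
    refine S.inp.faith w (f g) (rp_map (fun i => hΦ i ww) R.nsys R'.nsys hg) hodd ?_
    rintro t ht ⟨j, hj⟩
    obtain ⟨s, rfl, hs⟩ := E.exists_two hj
    rw [← map_mul, hc s ht ⟨j, hs⟩, map_mul]

/-- **The lift.** -/
theorem InS.lift (S : InS p cs h T' X' Φ') (hp : p.Prime) (hp2 : p ≠ 2) (E : CE p f) (hY : commutator Y = ⊤)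
    (hp3 : p = 3 → Function.Injective f) :
    ∃ Φ : ∀ i, SpecialLinearGroup (Fin 2) (k i) →* Y, (∀ i g, f (Φ i g) = Φ' i g) ∧
      (∀ i g, Φ' i g = 1 → Φ i g = 1) ∧ InS p cs h (T'.comap f) (fun x => lft p f (X' x)) Φ := by
  have : Fact p.Prime := ⟨hp⟩
  have key : ∀ i, ∃ φ : SpecialLinearGroup (Fin 2) (k i) →* Y, (∀ g, f (φ g) = Φ' i g) ∧ ∀ g, Φ' i g = 1 → φ g = 1 := by
    intro i
    by_cases h3 : p = 3
    · let e := MulEquiv.ofBijective f ⟨hp3 h3, E.surj⟩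
      refine ⟨e.symm.toMonoidHom.comp (Φ' i), fun g => e.apply_symm_apply _, fun g hg => ?_⟩
      rw [MonoidHom.comp_apply, hg, map_one]
    · have := S.finite i
      have := Fintype.ofFinite (k i)
      have hch : CharP (k i) p := (CharP.charP_iff_prime_eq_zero hp).2 (S.cast_p i)
      obtain ⟨m, -, hm⟩ := FiniteField.card (k i) p
      have hdv : p ∣ Fintype.card (k i) := by rw [hm]; exact dvd_pow_self p m.pos.ne'
      have h5 : 5 ≤ p := by
        have h2 := hp.two_le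
        by_contra h5
        have h4 : p = 4 := by omega
        rw [h4] at hp
        exact absurd hp (by norm_num)
      have hge : 5 ≤ Fintype.card (k i) := h5.trans (Nat.le_of_dvd Fintype.card_pos hdv)
      have h9 : Fintype.card (k i) ≠ 9 := by
        intro h9
        rw [h9] at hdv
        exact h3 ((Nat.prime_dvd_prime_iff_eq hp Nat.prime_three).1
          (hp.dvd_of_dvd_pow (show p ∣ 3 ^ 2 from hdv)))
      have hperf := H259.NatMod.commutator_eq_top (F := k i) (by omega)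
      obtain ⟨φ, hφ⟩ := H487.exists_lift_of_trivial ⟨hperf⟩ (S2117.result (F := k i) (by omega) h9) (Φ' i)
        E.surj E.cen
      have hφ' : ∀ g, f (φ g) = Φ' i g := fun g => DFunLike.congr_fun hφ g
      refine ⟨φ, hφ', fun g hg => ?_⟩
      rcases S2540.normal_dichotomy hperf (LieClassical.SLGen.psl_isSimpleGroup_of_perfect hperf) (Φ' i).ker with
        h1 | h1
      · have h2 : (⟨g, h1 hg⟩ : Subgroup.center _) ^ Nat.card (Subgroup.center (SpecialLinearGroup (Fin 2) (k i))) = 1 :=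
          pow_card_eq_one'
        have h4 : g ^ Nat.gcd 2 (Nat.card (k i) - 1) = 1 := by
          rw [← H93.PslCharpoly.card_center 2 (by norm_num)]
          exact congrArg Subtype.val h2
        have h6 : g ^ 2 ^ 1 = 1 := by
          rw [pow_one]
          exact orderOf_dvd_iff_pow_eq_one.1 ((orderOf_dvd_of_pow_eq_one h4).trans (Nat.gcd_dvd_left _ _))
        have : Fact (Nat.Prime 2) := ⟨Nat.prime_two⟩
        exact eq_one_of_ker E.cop2 (k := 1) (by rw [hφ', hg]) (by rw [← map_pow, h6, map_one])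
      · have h2 : uu (1 : k i) ∈ (Φ' i).ker := by rw [h1]; exact Subgroup.mem_top _
        exact absurd (S.inj i 1 h2) one_ne_zero
  choose Φ h1 h2 using key
  exact ⟨Φ, h1, h2, S.of_lift E hY h1 h2⟩

/-- an element of a rank one group is determined by its image -/
theorem eq_of_range (hΦ : ∀ i g, f (Φ i g) = Φ' i g) (hk : ∀ i g, Φ' i g = 1 → Φ i g = 1) {i : I} {x y : Y}
    (hx : x ∈ (Φ i).range) (hy : y ∈ (Φ i).range) (hxy : f x = f y) : x = y := by
  obtain ⟨a, rfl⟩ := hx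
  obtain ⟨b, rfl⟩ := hy
  have h1 := hk i (a * b⁻¹) (by rw [← hΦ, map_mul, map_inv, map_mul, map_inv, hxy, mul_inv_cancel])
  rwa [map_mul, map_inv, mul_inv_eq_one] at h1

/-- the action of the torus on a rank one group, and of `n i` on the torus, can be computed in the quotient -/
theorem InS.conj_lift {T : Subgroup Y} {X : (I → ℤ) → Subgroup Y} (S : InS p cs h T X Φ)
    (hΦ : ∀ i g, f (Φ i g) = Φ' i g) (hk : ∀ i g, Φ' i g = 1 → Φ i g = 1) {i : I} {t : Y} (ht : t ∈ T)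
    {s : SpecialLinearGroup (Fin 2) (k i)} (e : Φ' i ww * f t * (Φ' i ww)⁻¹ = f t * Φ' i s) :
    Φ i ww * t * (Φ i ww)⁻¹ = t * Φ i s := by
  have h1 : t⁻¹ * Φ i ww * t⁻¹⁻¹ * (Φ i ww)⁻¹ = Φ i s := by
    refine eq_of_range hΦ hk (mul_mem (S.conj_range (inv_mem ht) i ⟨_, rfl⟩) (inv_mem ⟨_, rfl⟩)) ⟨_, rfl⟩ ?_
    rw [inv_inv, map_mul, map_mul, map_mul, map_inv, map_inv, hΦ, hΦ, mul_assoc, mul_assoc, ← mul_assoc (Φ' i ww), e,
      inv_mul_cancel_left]
  rw [← h1]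
  group

/-- coroot data of the cover from the relations in the quotient -/
theorem InS.cor_lift {T : Subgroup Y} {X : (I → ℤ) → Subgroup Y} (S : InS p cs h T X Φ)
    (hΦ : ∀ i g, f (Φ i g) = Φ' i g) (hk : ∀ i g, Φ' i g = 1 → Φ i g = 1)
    {ω : ∀ i, (k i)ˣ} (hω : ∀ i c, c ∈ Subgroup.zpowers (ω i)) {A' : I → I → ℤ} (h' : IsCartan M A') {m : ℕ}
    (hc : ∀ i j, ∃ c : ℤ, Φ' i ww * Φ' j (dd (ω j)) * (Φ' i ww)⁻¹ = Φ' j (dd (ω j)) * Φ' i (dd (ω i)) ^ c ∧
      (m : ℤ) ∣ c + A' i j) : PS.Cor S.inp.rgd h' m fun i => Φ i (dd (ω i)) := by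
  refine S.cor hω h' fun i j => ?_
  obtain ⟨c, h1, h2⟩ := hc i j
  refine ⟨c, ?_, h2⟩
  rw [← map_zpow]
  refine S.conj_lift hΦ hk (S.d j _) ?_
  rw [hΦ, h1, map_zpow]

end lift

end Cfsg.Agent.ODD.Cv
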